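import Cfsg.Agent.H56.J4.Setup
import Cfsg.Agent.H56.J4.Up.Steps0
import Cfsg.Agent.H56.J4.Up.Steps1
import Cfsg.Agent.H56.J4.Up.Steps2
import Cfsg.Agent.H56.J4.Up.Steps3
import Cfsg.Agent.H56.J4.Up.Steps4
import Cfsg.Agent.H56.J4.Up.Steps5
import Cfsg.Agent.H56.J4.Up.Steps6
import Cfsg.Agent.H56.J4.Up.Steps7
import Cfsg.Agent.H56.J4.Up.Steps8
import Cfsg.Agent.H56.J4.Up.Steps9
import Cfsg.Agent.H56.J4.Up.Steps10
import Cfsg.Agent.H56.J4.Up.Steps11
import Cfsg.Agent.H56.J4.Up.Node0
import Cfsg.Agent.H56.J4.Up.Node1
import Cfsg.Agent.H56.J4.Up.Node2
import Cfsg.Agent.H56.J4.Up.Node3
import Cfsg.Agent.H56.J4.Up.Node4
import Cfsg.Agent.H56.J4.Up.Node5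
import Cfsg.Agent.H56.J4.Up.Node6
import Cfsg.Agent.H56.J4.Up.Node7
import Cfsg.Agent.H56.J4.Up.Node8
import Cfsg.Agent.H56.J4.Up.Node9
import Cfsg.Agent.H56.J4.Up.Node10
import Cfsg.Agent.H56.J4.Up.Node11
import Cfsg.Agent.H56.J4.Up.Node12
import Cfsg.Agent.H56.J4.Up.Node14
import Cfsg.Agent.H56.J4.Up.Node15
import Cfsg.Agent.H56.J4.Up.Node16
import Cfsg.Agent.H56.J4.Up.Node17
import Cfsg.Agent.H56.J4.Up.Node18
import Cfsg.Agent.H56.J4.Up.Node19
import Cfsg.Agent.H56.J4.Up.Node20

/-!
The subgroup `⟨x, y, (y t^v)^3⟩` of presented J4 has at most 173067389 cosets.
-/

set_option autoImplicit false
set_option maxRecDepth 100000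

namespace Cfsg.Agent.H56.J4

open Cfsg Cfsg.Agent.Golay Up
open scoped Pointwise

/-- the word `h = (y t^v)^3` -/
noncomputable def hh : J :=
  (jy * (((vH.map jl).prod)⁻¹ * jt * (vH.map jl).prod)) ^ 3

/-- the subgroup `⟨x, y, h⟩` -/
noncomputable def HH : Subgroup J := Subgroup.closure {jx, jy, hh}

theorem range_le : phi.range ≤ HH := by
  rw [phi_range]
  exact Subgroup.closure_mono (by
    intro g hg
    rcases hg with rfl | rfl
    · exact Set.mem_insert _ _
    · exact Set.mem_insert_of_mem _ (Set.mem_insert _ _))

/-- representatives of the nodes -/
noncomputable def rep : ℕ → J
  | 0 => 1
  | 1 => 1 * tK phi jt S0 4141623957727633551720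
  | 2 => 1 * tK phi jt S0 4141623957727633551720 * tK phi jt S0 3558213335081722778370
  | 3 => 1 * tK phi jt S0 4141623957727633551720 * tK phi jt S0 3558213335081722778370 * tK phi jt S0 2546017286701252418145
  | 4 => 1 * tK phi jt S0 4141623957727633551720 * tK phi jt S0 2389907270712489279570
  | 5 => 1 * tK phi jt S0 4141623957727633551720 * tK phi jt S0 3558213335081722778370 * tK phi jt S0 2527256983118641550595
  | 6 => 1 * tK phi jt S0 4141623957727633551720 * tK phi jt S0 3558213335081722778370 * tK phi jt S0 2527256983118641550595 * tK phi jt S0 3616951252448013140115
  | 7 => 1 * tK phi jt S0 4141623957727633551720 * tK phi jt S0 3558213335081722778370 * tK phi jt S0 2527256983118641550595 * tK phi jt S0 3616951252448013140115 * tK phi jt S0 2970794498166332772480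
  | 8 => 1 * tK phi jt S0 4141623957727633551720 * tK phi jt S0 3558213335081722778370 * tK phi jt S0 2527256983118641550595 * tK phi jt S0 3616951252448013140115 * tK phi jt S0 2970794498166332772480 * tK phi jt S0 2997911797755966982800
  | 9 => 1 * tK phi jt S0 4141623957727633551720 * tK phi jt S0 3558213335081722778370 * tK phi jt S0 2527256983118641550595 * tK phi jt S0 3616951252448013140115 * tK phi jt S0 2970794498166332772480 * tK phi jt S0 2389907270712489279570
  | 10 => 1 * tK phi jt S0 4141623957727633551720 * tK phi jt S0 3558213335081722778370 * tK phi jt S0 2527256983118641550595 * tK phi jt S0 3616951252448013140115 * tK phi jt S0 2970794498166332772480 * tK phi jt S0 4436667140842631552130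
  | 11 => 1 * tK phi jt S0 4141623957727633551720 * tK phi jt S0 3558213335081722778370 * tK phi jt S0 2527256983118641550595 * tK phi jt S0 3616951252448013140115 * tK phi jt S0 2970794498166332772480 * tK phi jt S0 4436667140842631552130 * tK phi jt S0 4155174730699532155980
  | 12 => 1 * tK phi jt S0 4141623957727633551720 * tK phi jt S0 3558213335081722778370 * tK phi jt S0 2527256983118641550595 * tK phi jt S0 3616951252448013140115 * tK phi jt S0 2970794498166332772480 * tK phi jt S0 4436667140842631552130 * tK phi jt S0 4155174730699532155980 * tK phi jt S0 4141623957727633551720
  | 13 => 1 * tK phi jt S0 4141623957727633551720 * tK phi jt S0 3558213335081722778370 * tK phi jt S0 2527256983118641550595 * tK phi jt S0 3616951252448013140115 * tK phi jt S0 2970794498166332772480 * tK phi jt S0 4436667140842631552130 * tK phi jt S0 4155174730699532155980 * tK phi jt S0 4141623957727633551720 * tK phi jt S0 2997911797755966982800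
  | 14 => 1 * tK phi jt S0 4141623957727633551720 * tK phi jt S0 3558213335081722778370 * tK phi jt S0 2527256983118641550595 * tK phi jt S0 3616951252448013140115 * tK phi jt S0 2970794498166332772480 * tK phi jt S0 4436667140842631552130 * tK phi jt S0 4155174730699532155980 * tK phi jt S0 4141623957727633551720 * tK phi jt S0 2409764828462090378370
  | 15 => 1 * tK phi jt S0 4141623957727633551720 * tK phi jt S0 3558213335081722778370 * tK phi jt S0 2527256983118641550595 * tK phi jt S0 4436667140842631552130
  | 16 => 1 * tK phi jt S0 4141623957727633551720 * tK phi jt S0 3558213335081722778370 * tK phi jt S0 2527256983118641550595 * tK phi jt S0 2670230486706662871810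
  | 17 => 1 * tK phi jt S0 4141623957727633551720 * tK phi jt S0 3558213335081722778370 * tK phi jt S0 2527256983118641550595 * tK phi jt S0 3616951252448013140115 * tK phi jt S0 2970794498166332772480 * tK phi jt S0 3330250429646305370205
  | 18 => 1 * tK phi jt S0 4141623957727633551720 * tK phi jt S0 3558213335081722778370 * tK phi jt S0 2389907270712489279570
  | 19 => 1 * tK phi jt S0 4141623957727633551720 * tK phi jt S0 2389907270712489279570 * tK phi jt S0 2704186762673443055190
  | 20 => 1 * tK phi jt S0 4141623957727633551720 * tK phi jt S0 3558213335081722778370 * tK phi jt S0 2546017286701252418145 * tK phi jt S0 2404179205105866015555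
  | _ => 1

theorem rep_zero : rep 0 = 1 := rfl

theorem rels_ok : RelsOK phi jt S0 HH rls := by
  have w3 : ∀ v : List ℕ, (v.all fun l => decide (l < 3)) = true →
      ((winv3 v).map jl).prod = ((v.map jl).prod)⁻¹ := fun v hv =>
    winv3_prod v fun l hl => of_decide_eq_true (List.all_eq_true.1 hv l hl)
  intro q hq
  simp only [rls, List.mem_cons, List.not_mem_nil, or_false] at hq
  rcases hq with rfl | rfl | rfl | rfl | rfl
  · obtain ⟨hp, he⟩ := cube_rel vW (p := 984818244535754528103549039458486304) (k1 := 2392528686288031336500) (k2 := 2409764806486908295425) (k3 := 2820766686180458828085)
      (by decide +kernel) (by decide +kernel) (by decide +kernel) (by decide +kernel) (w3 vW rfl)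
    refine ⟨hp, ?_⟩
    rw [if_pos rfl, he, r1_val]
  · obtain ⟨hp, hp'⟩ := pi_word (p := 195563133988597549472494045976173940) (w := sW ++ sW) (by decide +kernel)
    refine ⟨hp, ?_⟩
    rw [if_pos rfl, hp']
    simp only [tP, List.map_cons, List.map_nil, List.prod_cons, List.prod_nil,
      tK_word (K := 4141623957727633551720) (w := []) (by decide +kernel),
      tK_word (K := 2527256944080662713920) (w := uW ++ sW) (by decide +kernel),
      tK_word (K := 2527256933334604848195) (w := uW) (by decide +kernel),
      List.map_append, List.prod_append]
    have hs := (tK_word (K := 4141623957727633551720) (w := sW) (by decide +kernel)).symm.trans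
      (tK_word (K := 4141623957727633551720) (w := []) (by decide +kernel))
    simp only [List.map_nil, List.prod_nil, inv_one, one_mul, mul_one] at hs
    have e : (sW.map jl).prod * (sW.map jl).prod * jt =
        (sW.map jl).prod * jt * (sW.map jl).prod := by
      calc _ = (sW.map jl).prod * (sW.map jl).prod *
            (((sW.map jl).prod)⁻¹ * jt * (sW.map jl).prod) := by rw [hs]
        _ = _ := by group
    have h2 := r2_val
    rw [pow_two] at h2
    calc _ = (sW.map jl).prod * (sW.map jl).prod * jt * (((sW.map jl).prod)⁻¹ *
          (((uW.map jl).prod)⁻¹ * jt * (uW.map jl).prod) * (sW.map jl).prod * jt *
          (((uW.map jl).prod)⁻¹ * jt * (uW.map jl).prod)) := by group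
      _ = 1 := by rw [e, ← h2]; group
  · refine ⟨val_idN, ?_⟩
    rw [if_pos rfl]
    show pv phi idN * _ = 1
    rw [pv_idN, one_mul]
    simp only [tP, List.map_cons, List.map_nil, List.prod_cons, List.prod_nil, mul_one]
    exact tau_sq cen _
  · obtain ⟨hp, he⟩ := cube_rel vH (p := 984818244535754528103549039458486304) (k1 := 2840988408967416003660) (k2 := 3302040166890704743140) (k3 := 2768455657687974226245)
      (by decide +kernel) (by decide +kernel) (by decide +kernel) (by decide +kernel) (w3 vH rfl)
    refine ⟨hp, ?_⟩
    rw [if_neg Bool.false_ne_true, he]
    exact Subgroup.subset_closure (by simp [hh])
  · refine ⟨val_idN, ?_⟩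
    rw [if_pos rfl]
    show pv phi idN * _ = 1
    simp [tP, pv_idN]

theorem base_sem : ∀ k < 22, Sem phi jt S0 HH rep (look facts k) := by
  have hx : phi gX ∈ HH := phi_gX ▸ Subgroup.subset_closure (Set.mem_insert _ _)
  have hy : phi gY ∈ HH :=
    phi_gY ▸ Subgroup.subset_closure (Set.mem_insert_of_mem _ (Set.mem_insert _ _))
  intro k hk
  interval_cases k
  · rw [show look facts 0 = 10710221008559969477705806102523293577317313081232865538741883791037162771660898620415538335551001198592 by decide +kernel, Sem,
      show fU 10710221008559969477705806102523293577317313081232865538741883791037162771660898620415538335551001198592 = xT by decide +kernel, show fV 10710221008559969477705806102523293577317313081232865538741883791037162771660898620415538335551001198592 = xTi by decide +kernel,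
      show fT 10710221008559969477705806102523293577317313081232865538741883791037162771660898620415538335551001198592 = false by decide +kernel, show fI 10710221008559969477705806102523293577317313081232865538741883791037162771660898620415538335551001198592 = 0 by decide +kernel,
      show fJ 10710221008559969477705806102523293577317313081232865538741883791037162771660898620415538335551001198592 = 0 by decide +kernel, if_neg Bool.false_ne_true, rep_zero]
    refine ⟨val_xT, (Val.of_invOK inv_xT (gv_mem val_xT)).2, pv_inv val_xT inv_xT, ?_⟩
    rw [pv_eq val_xT]
    simpa [REq, gX] using hx
  · rw [show look facts 1 = 12376632031962722972613860400752258767423841057565169721782700380039277163113874868696038288393265741824 by decide +kernel, Sem,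
      show fU 12376632031962722972613860400752258767423841057565169721782700380039277163113874868696038288393265741824 = yT by decide +kernel, show fV 12376632031962722972613860400752258767423841057565169721782700380039277163113874868696038288393265741824 = yTi by decide +kernel,
      show fT 12376632031962722972613860400752258767423841057565169721782700380039277163113874868696038288393265741824 = false by decide +kernel, show fI 12376632031962722972613860400752258767423841057565169721782700380039277163113874868696038288393265741824 = 0 by decide +kernel,
      show fJ 12376632031962722972613860400752258767423841057565169721782700380039277163113874868696038288393265741824 = 0 by decide +kernel, if_neg Bool.false_ne_true, rep_zero]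
    refine ⟨val_yT, (Val.of_invOK inv_yT (gv_mem val_yT)).2, pv_inv val_yT inv_yT, ?_⟩
    rw [pv_eq val_yT]
    simpa [REq, gY] using hy
  · rw [show look facts 2 = 26550647349520859070416631072045491401061379630444540591896914737692114709067500582368603259462010077440 by decide +kernel, Sem,
      show fU 26550647349520859070416631072045491401061379630444540591896914737692114709067500582368603259462010077440 = idN by decide +kernel, show fV 26550647349520859070416631072045491401061379630444540591896914737692114709067500582368603259462010077440 = idN by decide +kernel,
      show fT 26550647349520859070416631072045491401061379630444540591896914737692114709067500582368603259462010077440 = true by decide +kernel, show fI 26550647349520859070416631072045491401061379630444540591896914737692114709067500582368603259462010077440 = 0 by decide +kernel,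
      show fJ 26550647349520859070416631072045491401061379630444540591896914737692114709067500582368603259462010077440 = 1 by decide +kernel, show fK 26550647349520859070416631072045491401061379630444540591896914737692114709067500582368603259462010077440 = 4141623957727633551720 by decide +kernel, if_pos rfl, pv_idN,
      inv_one, mul_one]
    exact ⟨val_idN, val_idN, rfl, REq.refl _ _⟩
  · rw [show look facts 3 = 26550647349520859070416631072045491401061379630444540591896914737692114706561771037965419499789691716097 by decide +kernel, Sem,
      show fU 26550647349520859070416631072045491401061379630444540591896914737692114706561771037965419499789691716097 = idN by decide +kernel, show fV 26550647349520859070416631072045491401061379630444540591896914737692114706561771037965419499789691716097 = idN by decide +kernel,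
      show fT 26550647349520859070416631072045491401061379630444540591896914737692114706561771037965419499789691716097 = true by decide +kernel, show fI 26550647349520859070416631072045491401061379630444540591896914737692114706561771037965419499789691716097 = 1 by decide +kernel,
      show fJ 26550647349520859070416631072045491401061379630444540591896914737692114706561771037965419499789691716097 = 2 by decide +kernel, show fK 26550647349520859070416631072045491401061379630444540591896914737692114706561771037965419499789691716097 = 3558213335081722778370 by decide +kernel, if_pos rfl, pv_idN,
      inv_one, mul_one]
    exact ⟨val_idN, val_idN, rfl, REq.refl _ _⟩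
  · rw [show look facts 4 = 26550647349520859070416631072045491401061379630444540591896914737692114702214422113030865537525977514754 by decide +kernel, Sem,
      show fU 26550647349520859070416631072045491401061379630444540591896914737692114702214422113030865537525977514754 = idN by decide +kernel, show fV 26550647349520859070416631072045491401061379630444540591896914737692114702214422113030865537525977514754 = idN by decide +kernel,
      show fT 26550647349520859070416631072045491401061379630444540591896914737692114702214422113030865537525977514754 = true by decide +kernel, show fI 26550647349520859070416631072045491401061379630444540591896914737692114702214422113030865537525977514754 = 2 by decide +kernel,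
      show fJ 26550647349520859070416631072045491401061379630444540591896914737692114702214422113030865537525977514754 = 3 by decide +kernel, show fK 26550647349520859070416631072045491401061379630444540591896914737692114702214422113030865537525977514754 = 2546017286701252418145 by decide +kernel, if_pos rfl, pv_idN,
      inv_one, mul_one]
    exact ⟨val_idN, val_idN, rfl, REq.refl _ _⟩
  · rw [show look facts 5 = 26550647349520859070416631072045491401061379630444540591896914737692114701543934699781090753856036471809 by decide +kernel, Sem,
      show fU 26550647349520859070416631072045491401061379630444540591896914737692114701543934699781090753856036471809 = idN by decide +kernel, show fV 26550647349520859070416631072045491401061379630444540591896914737692114701543934699781090753856036471809 = idN by decide +kernel,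
      show fT 26550647349520859070416631072045491401061379630444540591896914737692114701543934699781090753856036471809 = true by decide +kernel, show fI 26550647349520859070416631072045491401061379630444540591896914737692114701543934699781090753856036471809 = 1 by decide +kernel,
      show fJ 26550647349520859070416631072045491401061379630444540591896914737692114701543934699781090753856036471809 = 4 by decide +kernel, show fK 26550647349520859070416631072045491401061379630444540591896914737692114701543934699781090753856036471809 = 2389907270712489279570 by decide +kernel, if_pos rfl, pv_idN,
      inv_one, mul_one]
    exact ⟨val_idN, val_idN, rfl, REq.refl _ _⟩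
  · rw [show look facts 6 = 26550647349520859070416631072045491401061379630444540591896914737692114702133847222680520227104539870466 by decide +kernel, Sem,
      show fU 26550647349520859070416631072045491401061379630444540591896914737692114702133847222680520227104539870466 = idN by decide +kernel, show fV 26550647349520859070416631072045491401061379630444540591896914737692114702133847222680520227104539870466 = idN by decide +kernel,
      show fT 26550647349520859070416631072045491401061379630444540591896914737692114702133847222680520227104539870466 = true by decide +kernel, show fI 26550647349520859070416631072045491401061379630444540591896914737692114702133847222680520227104539870466 = 2 by decide +kernel,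
      show fJ 26550647349520859070416631072045491401061379630444540591896914737692114702133847222680520227104539870466 = 5 by decide +kernel, show fK 26550647349520859070416631072045491401061379630444540591896914737692114702133847222680520227104539870466 = 2527256983118641550595 by decide +kernel, if_pos rfl, pv_idN,
      inv_one, mul_one]
    exact ⟨val_idN, val_idN, rfl, REq.refl _ _⟩
  · rw [show look facts 7 = 26550647349520859070416631072045491401061379630444540591896914737692114706814048472088787056324476208645 by decide +kernel, Sem,
      show fU 26550647349520859070416631072045491401061379630444540591896914737692114706814048472088787056324476208645 = idN by decide +kernel, show fV 26550647349520859070416631072045491401061379630444540591896914737692114706814048472088787056324476208645 = idN by decide +kernel,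
      show fT 26550647349520859070416631072045491401061379630444540591896914737692114706814048472088787056324476208645 = true by decide +kernel, show fI 26550647349520859070416631072045491401061379630444540591896914737692114706814048472088787056324476208645 = 5 by decide +kernel,
      show fJ 26550647349520859070416631072045491401061379630444540591896914737692114706814048472088787056324476208645 = 6 by decide +kernel, show fK 26550647349520859070416631072045491401061379630444540591896914737692114706814048472088787056324476208645 = 3616951252448013140115 by decide +kernel, if_pos rfl, pv_idN,
      inv_one, mul_one]
    exact ⟨val_idN, val_idN, rfl, REq.refl _ _⟩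
  · rw [show look facts 8 = 26550647349520859070416631072045491401061379630444540591896914737692114704038826344359461905406894343942 by decide +kernel, Sem,
      show fU 26550647349520859070416631072045491401061379630444540591896914737692114704038826344359461905406894343942 = idN by decide +kernel, show fV 26550647349520859070416631072045491401061379630444540591896914737692114704038826344359461905406894343942 = idN by decide +kernel,
      show fT 26550647349520859070416631072045491401061379630444540591896914737692114704038826344359461905406894343942 = true by decide +kernel, show fI 26550647349520859070416631072045491401061379630444540591896914737692114704038826344359461905406894343942 = 6 by decide +kernel,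
      show fJ 26550647349520859070416631072045491401061379630444540591896914737692114704038826344359461905406894343942 = 7 by decide +kernel, show fK 26550647349520859070416631072045491401061379630444540591896914737692114704038826344359461905406894343942 = 2970794498166332772480 by decide +kernel, if_pos rfl, pv_idN,
      inv_one, mul_one]
    exact ⟨val_idN, val_idN, rfl, REq.refl _ _⟩
  · rw [show look facts 9 = 26550647349520859070416631072045491401061379630444540591896914737692114704155294259252775059334080038919 by decide +kernel, Sem,
      show fU 26550647349520859070416631072045491401061379630444540591896914737692114704155294259252775059334080038919 = idN by decide +kernel, show fV 26550647349520859070416631072045491401061379630444540591896914737692114704155294259252775059334080038919 = idN by decide +kernel,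
      show fT 26550647349520859070416631072045491401061379630444540591896914737692114704155294259252775059334080038919 = true by decide +kernel, show fI 26550647349520859070416631072045491401061379630444540591896914737692114704155294259252775059334080038919 = 7 by decide +kernel,
      show fJ 26550647349520859070416631072045491401061379630444540591896914737692114704155294259252775059334080038919 = 8 by decide +kernel, show fK 26550647349520859070416631072045491401061379630444540591896914737692114704155294259252775059334080038919 = 2997911797755966982800 by decide +kernel, if_pos rfl, pv_idN,
      inv_one, mul_one]
    exact ⟨val_idN, val_idN, rfl, REq.refl _ _⟩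
  · rw [show look facts 10 = 26550647349520859070416631072045491401061379630444540591896914737692114701543934699781090753856036473095 by decide +kernel, Sem,
      show fU 26550647349520859070416631072045491401061379630444540591896914737692114701543934699781090753856036473095 = idN by decide +kernel, show fV 26550647349520859070416631072045491401061379630444540591896914737692114701543934699781090753856036473095 = idN by decide +kernel,
      show fT 26550647349520859070416631072045491401061379630444540591896914737692114701543934699781090753856036473095 = true by decide +kernel, show fI 26550647349520859070416631072045491401061379630444540591896914737692114701543934699781090753856036473095 = 7 by decide +kernel,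
      show fJ 26550647349520859070416631072045491401061379630444540591896914737692114701543934699781090753856036473095 = 9 by decide +kernel, show fK 26550647349520859070416631072045491401061379630444540591896914737692114701543934699781090753856036473095 = 2389907270712489279570 by decide +kernel, if_pos rfl, pv_idN,
      inv_one, mul_one]
    exact ⟨val_idN, val_idN, rfl, REq.refl _ _⟩
  · rw [show look facts 11 = 26550647349520859070416631072045491401061379630444540591896914737692114710334701404755259078328354671111 by decide +kernel, Sem,
      show fU 26550647349520859070416631072045491401061379630444540591896914737692114710334701404755259078328354671111 = idN by decide +kernel, show fV 26550647349520859070416631072045491401061379630444540591896914737692114710334701404755259078328354671111 = idN by decide +kernel,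
      show fT 26550647349520859070416631072045491401061379630444540591896914737692114710334701404755259078328354671111 = true by decide +kernel, show fI 26550647349520859070416631072045491401061379630444540591896914737692114710334701404755259078328354671111 = 7 by decide +kernel,
      show fJ 26550647349520859070416631072045491401061379630444540591896914737692114710334701404755259078328354671111 = 10 by decide +kernel, show fK 26550647349520859070416631072045491401061379630444540591896914737692114710334701404755259078328354671111 = 4436667140842631552130 by decide +kernel, if_pos rfl, pv_idN,
      inv_one, mul_one]
    exact ⟨val_idN, val_idN, rfl, REq.refl _ _⟩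
  · rw [show look facts 12 = 26550647349520859070416631072045491401061379630444540591896914737692114709125700709118428491786756360970 by decide +kernel, Sem,
      show fU 26550647349520859070416631072045491401061379630444540591896914737692114709125700709118428491786756360970 = idN by decide +kernel, show fV 26550647349520859070416631072045491401061379630444540591896914737692114709125700709118428491786756360970 = idN by decide +kernel,
      show fT 26550647349520859070416631072045491401061379630444540591896914737692114709125700709118428491786756360970 = true by decide +kernel, show fI 26550647349520859070416631072045491401061379630444540591896914737692114709125700709118428491786756360970 = 10 by decide +kernel,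
      show fJ 26550647349520859070416631072045491401061379630444540591896914737692114709125700709118428491786756360970 = 11 by decide +kernel, show fK 26550647349520859070416631072045491401061379630444540591896914737692114709125700709118428491786756360970 = 4155174730699532155980 by decide +kernel, if_pos rfl, pv_idN,
      inv_one, mul_one]
    exact ⟨val_idN, val_idN, rfl, REq.refl _ _⟩
  · rw [show look facts 13 = 26550647349520859070416631072045491401061379630444540591896914737692114709067500582368603259462010080267 by decide +kernel, Sem,
      show fU 26550647349520859070416631072045491401061379630444540591896914737692114709067500582368603259462010080267 = idN by decide +kernel, show fV 26550647349520859070416631072045491401061379630444540591896914737692114709067500582368603259462010080267 = idN by decide +kernel,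
      show fT 26550647349520859070416631072045491401061379630444540591896914737692114709067500582368603259462010080267 = true by decide +kernel, show fI 26550647349520859070416631072045491401061379630444540591896914737692114709067500582368603259462010080267 = 11 by decide +kernel,
      show fJ 26550647349520859070416631072045491401061379630444540591896914737692114709067500582368603259462010080267 = 12 by decide +kernel, show fK 26550647349520859070416631072045491401061379630444540591896914737692114709067500582368603259462010080267 = 4141623957727633551720 by decide +kernel, if_pos rfl, pv_idN,
      inv_one, mul_one]
    exact ⟨val_idN, val_idN, rfl, REq.refl _ _⟩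
  · rw [show look facts 14 = 26550647349520859070416631072045491401061379630444540591896914737692114704155294259252775059334080040204 by decide +kernel, Sem,
      show fU 26550647349520859070416631072045491401061379630444540591896914737692114704155294259252775059334080040204 = idN by decide +kernel, show fV 26550647349520859070416631072045491401061379630444540591896914737692114704155294259252775059334080040204 = idN by decide +kernel,
      show fT 26550647349520859070416631072045491401061379630444540591896914737692114704155294259252775059334080040204 = true by decide +kernel, show fI 26550647349520859070416631072045491401061379630444540591896914737692114704155294259252775059334080040204 = 12 by decide +kernel,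
      show fJ 26550647349520859070416631072045491401061379630444540591896914737692114704155294259252775059334080040204 = 13 by decide +kernel, show fK 26550647349520859070416631072045491401061379630444540591896914737692114704155294259252775059334080040204 = 2997911797755966982800 by decide +kernel, if_pos rfl, pv_idN,
      inv_one, mul_one]
    exact ⟨val_idN, val_idN, rfl, REq.refl _ _⟩
  · rw [show look facts 15 = 26550647349520859070416631072045491401061379630444540591896914737692114701629222260894058830247701319180 by decide +kernel, Sem,
      show fU 26550647349520859070416631072045491401061379630444540591896914737692114701629222260894058830247701319180 = idN by decide +kernel, show fV 26550647349520859070416631072045491401061379630444540591896914737692114701629222260894058830247701319180 = idN by decide +kernel,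
      show fT 26550647349520859070416631072045491401061379630444540591896914737692114701629222260894058830247701319180 = true by decide +kernel, show fI 26550647349520859070416631072045491401061379630444540591896914737692114701629222260894058830247701319180 = 12 by decide +kernel,
      show fJ 26550647349520859070416631072045491401061379630444540591896914737692114701629222260894058830247701319180 = 14 by decide +kernel, show fK 26550647349520859070416631072045491401061379630444540591896914737692114701629222260894058830247701319180 = 2409764828462090378370 by decide +kernel, if_pos rfl, pv_idN,
      inv_one, mul_one]
    exact ⟨val_idN, val_idN, rfl, REq.refl _ _⟩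
  · rw [show look facts 16 = 26550647349520859070416631072045491401061379630444540591896914737692114710334701404755259078328354672389 by decide +kernel, Sem,
      show fU 26550647349520859070416631072045491401061379630444540591896914737692114710334701404755259078328354672389 = idN by decide +kernel, show fV 26550647349520859070416631072045491401061379630444540591896914737692114710334701404755259078328354672389 = idN by decide +kernel,
      show fT 26550647349520859070416631072045491401061379630444540591896914737692114710334701404755259078328354672389 = true by decide +kernel, show fI 26550647349520859070416631072045491401061379630444540591896914737692114710334701404755259078328354672389 = 5 by decide +kernel,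
      show fJ 26550647349520859070416631072045491401061379630444540591896914737692114710334701404755259078328354672389 = 15 by decide +kernel, show fK 26550647349520859070416631072045491401061379630444540591896914737692114710334701404755259078328354672389 = 4436667140842631552130 by decide +kernel, if_pos rfl, pv_idN,
      inv_one, mul_one]
    exact ⟨val_idN, val_idN, rfl, REq.refl _ _⟩
  · rw [show look facts 17 = 26550647349520859070416631072045491401061379630444540591896914737692114702747913744785610459073675857925 by decide +kernel, Sem,
      show fU 26550647349520859070416631072045491401061379630444540591896914737692114702747913744785610459073675857925 = idN by decide +kernel, show fV 26550647349520859070416631072045491401061379630444540591896914737692114702747913744785610459073675857925 = idN by decide +kernel,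
      show fT 26550647349520859070416631072045491401061379630444540591896914737692114702747913744785610459073675857925 = true by decide +kernel, show fI 26550647349520859070416631072045491401061379630444540591896914737692114702747913744785610459073675857925 = 5 by decide +kernel,
      show fJ 26550647349520859070416631072045491401061379630444540591896914737692114702747913744785610459073675857925 = 16 by decide +kernel, show fK 26550647349520859070416631072045491401061379630444540591896914737692114702747913744785610459073675857925 = 2670230486706662871810 by decide +kernel, if_pos rfl, pv_idN,
      inv_one, mul_one]
    exact ⟨val_idN, val_idN, rfl, REq.refl _ _⟩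
  · rw [show look facts 18 = 26550647349520859070416631072045491401061379630444540591896914737692114705582677814419161091611933348103 by decide +kernel, Sem,
      show fU 26550647349520859070416631072045491401061379630444540591896914737692114705582677814419161091611933348103 = idN by decide +kernel, show fV 26550647349520859070416631072045491401061379630444540591896914737692114705582677814419161091611933348103 = idN by decide +kernel,
      show fT 26550647349520859070416631072045491401061379630444540591896914737692114705582677814419161091611933348103 = true by decide +kernel, show fI 26550647349520859070416631072045491401061379630444540591896914737692114705582677814419161091611933348103 = 7 by decide +kernel,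
      show fJ 26550647349520859070416631072045491401061379630444540591896914737692114705582677814419161091611933348103 = 17 by decide +kernel, show fK 26550647349520859070416631072045491401061379630444540591896914737692114705582677814419161091611933348103 = 3330250429646305370205 by decide +kernel, if_pos rfl, pv_idN,
      inv_one, mul_one]
    exact ⟨val_idN, val_idN, rfl, REq.refl _ _⟩
  · rw [show look facts 19 = 26550647349520859070416631072045491401061379630444540591896914737692114701543934699781090753856036475394 by decide +kernel, Sem,
      show fU 26550647349520859070416631072045491401061379630444540591896914737692114701543934699781090753856036475394 = idN by decide +kernel, show fV 26550647349520859070416631072045491401061379630444540591896914737692114701543934699781090753856036475394 = idN by decide +kernel,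
      show fT 26550647349520859070416631072045491401061379630444540591896914737692114701543934699781090753856036475394 = true by decide +kernel, show fI 26550647349520859070416631072045491401061379630444540591896914737692114701543934699781090753856036475394 = 2 by decide +kernel,
      show fJ 26550647349520859070416631072045491401061379630444540591896914737692114701543934699781090753856036475394 = 18 by decide +kernel, show fK 26550647349520859070416631072045491401061379630444540591896914737692114701543934699781090753856036475394 = 2389907270712489279570 by decide +kernel, if_pos rfl, pv_idN,
      inv_one, mul_one]
    exact ⟨val_idN, val_idN, rfl, REq.refl _ _⟩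
  · rw [show look facts 20 = 26550647349520859070416631072045491401061379630444540591896914737692114702893754839556882129111658599172 by decide +kernel, Sem,
      show fU 26550647349520859070416631072045491401061379630444540591896914737692114702893754839556882129111658599172 = idN by decide +kernel, show fV 26550647349520859070416631072045491401061379630444540591896914737692114702893754839556882129111658599172 = idN by decide +kernel,
      show fT 26550647349520859070416631072045491401061379630444540591896914737692114702893754839556882129111658599172 = true by decide +kernel, show fI 26550647349520859070416631072045491401061379630444540591896914737692114702893754839556882129111658599172 = 4 by decide +kernel,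
      show fJ 26550647349520859070416631072045491401061379630444540591896914737692114702893754839556882129111658599172 = 19 by decide +kernel, show fK 26550647349520859070416631072045491401061379630444540591896914737692114702893754839556882129111658599172 = 2704186762673443055190 by decide +kernel, if_pos rfl, pv_idN,
      inv_one, mul_one]
    exact ⟨val_idN, val_idN, rfl, REq.refl _ _⟩
  · rw [show look facts 21 = 26550647349520859070416631072045491401061379630444540591896914737692114701605232191251301433918837822467 by decide +kernel, Sem,
      show fU 26550647349520859070416631072045491401061379630444540591896914737692114701605232191251301433918837822467 = idN by decide +kernel, show fV 26550647349520859070416631072045491401061379630444540591896914737692114701605232191251301433918837822467 = idN by decide +kernel,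
      show fT 26550647349520859070416631072045491401061379630444540591896914737692114701605232191251301433918837822467 = true by decide +kernel, show fI 26550647349520859070416631072045491401061379630444540591896914737692114701605232191251301433918837822467 = 3 by decide +kernel,
      show fJ 26550647349520859070416631072045491401061379630444540591896914737692114701605232191251301433918837822467 = 20 by decide +kernel, show fK 26550647349520859070416631072045491401061379630444540591896914737692114701605232191251301433918837822467 = 2404179205105866015555 by decide +kernel, if_pos rfl, pv_idN,
      inv_one, mul_one]
    exact ⟨val_idN, val_idN, rfl, REq.refl _ _⟩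

theorem sem0 : ∀ k < 122, Sem phi jt S0 HH rep (look facts k) := by
  intro k hk
  exact runChk_sound cen rep_zero rels_ok st0_0 22 base_sem st0_0_ok k (by rw [st0_0_len]; omega)

theorem sem1 : ∀ k < 222, Sem phi jt S0 HH rep (look facts k) := by
  intro k hk
  exact runChk_sound cen rep_zero rels_ok st0_1 122 sem0 st0_1_ok k (by rw [st0_1_len]; omega)

theorem sem2 : ∀ k < 322, Sem phi jt S0 HH rep (look facts k) := by
  intro k hk
  exact runChk_sound cen rep_zero rels_ok st0_2 222 sem1 st0_2_ok k (by rw [st0_2_len]; omega)

theorem sem3 : ∀ k < 422, Sem phi jt S0 HH rep (look facts k) := by
  intro k hk
  exact runChk_sound cen rep_zero rels_ok st0_3 322 sem2 st0_3_ok k (by rw [st0_3_len]; omega)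

theorem sem4 : ∀ k < 522, Sem phi jt S0 HH rep (look facts k) := by
  intro k hk
  exact runChk_sound cen rep_zero rels_ok st1_0 422 sem3 st1_0_ok k (by rw [st1_0_len]; omega)

theorem sem5 : ∀ k < 622, Sem phi jt S0 HH rep (look facts k) := by
  intro k hk
  exact runChk_sound cen rep_zero rels_ok st1_1 522 sem4 st1_1_ok k (by rw [st1_1_len]; omega)

theorem sem6 : ∀ k < 722, Sem phi jt S0 HH rep (look facts k) := by
  intro k hk
  exact runChk_sound cen rep_zero rels_ok st1_2 622 sem5 st1_2_ok k (by rw [st1_2_len]; omega)

theorem sem7 : ∀ k < 822, Sem phi jt S0 HH rep (look facts k) := by
  intro k hk
  exact runChk_sound cen rep_zero rels_ok st1_3 722 sem6 st1_3_ok k (by rw [st1_3_len]; omega)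

theorem sem8 : ∀ k < 922, Sem phi jt S0 HH rep (look facts k) := by
  intro k hk
  exact runChk_sound cen rep_zero rels_ok st2_0 822 sem7 st2_0_ok k (by rw [st2_0_len]; omega)

theorem sem9 : ∀ k < 1022, Sem phi jt S0 HH rep (look facts k) := by
  intro k hk
  exact runChk_sound cen rep_zero rels_ok st2_1 922 sem8 st2_1_ok k (by rw [st2_1_len]; omega)

theorem sem10 : ∀ k < 1122, Sem phi jt S0 HH rep (look facts k) := by
  intro k hk
  exact runChk_sound cen rep_zero rels_ok st2_2 1022 sem9 st2_2_ok k (by rw [st2_2_len]; omega)

theorem sem11 : ∀ k < 1222, Sem phi jt S0 HH rep (look facts k) := by
  intro k hk
  exact runChk_sound cen rep_zero rels_ok st2_3 1122 sem10 st2_3_ok k (by rw [st2_3_len]; omega)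

theorem sem12 : ∀ k < 1322, Sem phi jt S0 HH rep (look facts k) := by
  intro k hk
  exact runChk_sound cen rep_zero rels_ok st3_0 1222 sem11 st3_0_ok k (by rw [st3_0_len]; omega)

theorem sem13 : ∀ k < 1422, Sem phi jt S0 HH rep (look facts k) := by
  intro k hk
  exact runChk_sound cen rep_zero rels_ok st3_1 1322 sem12 st3_1_ok k (by rw [st3_1_len]; omega)

theorem sem14 : ∀ k < 1522, Sem phi jt S0 HH rep (look facts k) := by
  intro k hk
  exact runChk_sound cen rep_zero rels_ok st3_2 1422 sem13 st3_2_ok k (by rw [st3_2_len]; omega)

theorem sem15 : ∀ k < 1622, Sem phi jt S0 HH rep (look facts k) := by
  intro k hk
  exact runChk_sound cen rep_zero rels_ok st3_3 1522 sem14 st3_3_ok k (by rw [st3_3_len]; omega)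

theorem sem16 : ∀ k < 1722, Sem phi jt S0 HH rep (look facts k) := by
  intro k hk
  exact runChk_sound cen rep_zero rels_ok st4_0 1622 sem15 st4_0_ok k (by rw [st4_0_len]; omega)

theorem sem17 : ∀ k < 1822, Sem phi jt S0 HH rep (look facts k) := by
  intro k hk
  exact runChk_sound cen rep_zero rels_ok st4_1 1722 sem16 st4_1_ok k (by rw [st4_1_len]; omega)

theorem sem18 : ∀ k < 1922, Sem phi jt S0 HH rep (look facts k) := by
  intro k hk
  exact runChk_sound cen rep_zero rels_ok st4_2 1822 sem17 st4_2_ok k (by rw [st4_2_len]; omega)

theorem sem19 : ∀ k < 2022, Sem phi jt S0 HH rep (look facts k) := by
  intro k hk
  exact runChk_sound cen rep_zero rels_ok st4_3 1922 sem18 st4_3_ok k (by rw [st4_3_len]; omega)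

theorem sem20 : ∀ k < 2122, Sem phi jt S0 HH rep (look facts k) := by
  intro k hk
  exact runChk_sound cen rep_zero rels_ok st5_0 2022 sem19 st5_0_ok k (by rw [st5_0_len]; omega)

theorem sem21 : ∀ k < 2222, Sem phi jt S0 HH rep (look facts k) := by
  intro k hk
  exact runChk_sound cen rep_zero rels_ok st5_1 2122 sem20 st5_1_ok k (by rw [st5_1_len]; omega)

theorem sem22 : ∀ k < 2322, Sem phi jt S0 HH rep (look facts k) := by
  intro k hk
  exact runChk_sound cen rep_zero rels_ok st5_2 2222 sem21 st5_2_ok k (by rw [st5_2_len]; omega)

theorem sem23 : ∀ k < 2422, Sem phi jt S0 HH rep (look facts k) := by
  intro k hk
  exact runChk_sound cen rep_zero rels_ok st5_3 2322 sem22 st5_3_ok k (by rw [st5_3_len]; omega)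

theorem sem24 : ∀ k < 2522, Sem phi jt S0 HH rep (look facts k) := by
  intro k hk
  exact runChk_sound cen rep_zero rels_ok st6_0 2422 sem23 st6_0_ok k (by rw [st6_0_len]; omega)

theorem sem25 : ∀ k < 2622, Sem phi jt S0 HH rep (look facts k) := by
  intro k hk
  exact runChk_sound cen rep_zero rels_ok st6_1 2522 sem24 st6_1_ok k (by rw [st6_1_len]; omega)

theorem sem26 : ∀ k < 2722, Sem phi jt S0 HH rep (look facts k) := by
  intro k hk
  exact runChk_sound cen rep_zero rels_ok st6_2 2622 sem25 st6_2_ok k (by rw [st6_2_len]; omega)

theorem sem27 : ∀ k < 2822, Sem phi jt S0 HH rep (look facts k) := by
  intro k hk
  exact runChk_sound cen rep_zero rels_ok st6_3 2722 sem26 st6_3_ok k (by rw [st6_3_len]; omega)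

theorem sem28 : ∀ k < 2922, Sem phi jt S0 HH rep (look facts k) := by
  intro k hk
  exact runChk_sound cen rep_zero rels_ok st7_0 2822 sem27 st7_0_ok k (by rw [st7_0_len]; omega)

theorem sem29 : ∀ k < 3022, Sem phi jt S0 HH rep (look facts k) := by
  intro k hk
  exact runChk_sound cen rep_zero rels_ok st7_1 2922 sem28 st7_1_ok k (by rw [st7_1_len]; omega)

theorem sem30 : ∀ k < 3122, Sem phi jt S0 HH rep (look facts k) := by
  intro k hk
  exact runChk_sound cen rep_zero rels_ok st7_2 3022 sem29 st7_2_ok k (by rw [st7_2_len]; omega)

theorem sem31 : ∀ k < 3222, Sem phi jt S0 HH rep (look facts k) := by
  intro k hk
  exact runChk_sound cen rep_zero rels_ok st7_3 3122 sem30 st7_3_ok k (by rw [st7_3_len]; omega)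

theorem sem32 : ∀ k < 3322, Sem phi jt S0 HH rep (look facts k) := by
  intro k hk
  exact runChk_sound cen rep_zero rels_ok st8_0 3222 sem31 st8_0_ok k (by rw [st8_0_len]; omega)

theorem sem33 : ∀ k < 3422, Sem phi jt S0 HH rep (look facts k) := by
  intro k hk
  exact runChk_sound cen rep_zero rels_ok st8_1 3322 sem32 st8_1_ok k (by rw [st8_1_len]; omega)

theorem sem34 : ∀ k < 3522, Sem phi jt S0 HH rep (look facts k) := by
  intro k hk
  exact runChk_sound cen rep_zero rels_ok st8_2 3422 sem33 st8_2_ok k (by rw [st8_2_len]; omega)

theorem sem35 : ∀ k < 3622, Sem phi jt S0 HH rep (look facts k) := by
  intro k hk
  exact runChk_sound cen rep_zero rels_ok st8_3 3522 sem34 st8_3_ok k (by rw [st8_3_len]; omega)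

theorem sem36 : ∀ k < 3722, Sem phi jt S0 HH rep (look facts k) := by
  intro k hk
  exact runChk_sound cen rep_zero rels_ok st9_0 3622 sem35 st9_0_ok k (by rw [st9_0_len]; omega)

theorem sem37 : ∀ k < 3822, Sem phi jt S0 HH rep (look facts k) := by
  intro k hk
  exact runChk_sound cen rep_zero rels_ok st9_1 3722 sem36 st9_1_ok k (by rw [st9_1_len]; omega)

theorem sem38 : ∀ k < 3922, Sem phi jt S0 HH rep (look facts k) := by
  intro k hk
  exact runChk_sound cen rep_zero rels_ok st9_2 3822 sem37 st9_2_ok k (by rw [st9_2_len]; omega)

theorem sem39 : ∀ k < 4022, Sem phi jt S0 HH rep (look facts k) := by
  intro k hk
  exact runChk_sound cen rep_zero rels_ok st9_3 3922 sem38 st9_3_ok k (by rw [st9_3_len]; omega)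

theorem sem40 : ∀ k < 4122, Sem phi jt S0 HH rep (look facts k) := by
  intro k hk
  exact runChk_sound cen rep_zero rels_ok st10_0 4022 sem39 st10_0_ok k (by rw [st10_0_len]; omega)

theorem sem41 : ∀ k < 4222, Sem phi jt S0 HH rep (look facts k) := by
  intro k hk
  exact runChk_sound cen rep_zero rels_ok st10_1 4122 sem40 st10_1_ok k (by rw [st10_1_len]; omega)

theorem sem42 : ∀ k < 4322, Sem phi jt S0 HH rep (look facts k) := by
  intro k hk
  exact runChk_sound cen rep_zero rels_ok st10_2 4222 sem41 st10_2_ok k (by rw [st10_2_len]; omega)

theorem sem43 : ∀ k < 4422, Sem phi jt S0 HH rep (look facts k) := by
  intro k hk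
  exact runChk_sound cen rep_zero rels_ok st10_3 4322 sem42 st10_3_ok k (by rw [st10_3_len]; omega)

theorem sem44 : ∀ k < 4522, Sem phi jt S0 HH rep (look facts k) := by
  intro k hk
  exact runChk_sound cen rep_zero rels_ok st11_0 4422 sem43 st11_0_ok k (by rw [st11_0_len]; omega)

theorem sem45 : ∀ k < 4534, Sem phi jt S0 HH rep (look facts k) := by
  intro k hk
  exact runChk_sound cen rep_zero rels_ok st11_1 4522 sem44 st11_1_ok k (by rw [st11_1_len]; omega)

theorem sem_all : ∀ k < 4534, Sem phi jt S0 HH rep (look facts k) := sem45

theorem cover : ∀ i ∈ nodeList, ∀ p < 3795,
    Cov phi HH rep nodeList (rep i * tK phi jt S0 (lookK kt p)) := by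
  intro i hi
  simp only [nodeList, List.mem_cons, List.not_mem_nil, or_false] at hi
  rcases hi with rfl | rfl | rfl | rfl | rfl | rfl | rfl | rfl | rfl | rfl | rfl | rfl | rfl | rfl | rfl | rfl | rfl | rfl | rfl | rfl
  · exact nodeOK_sound cen sem_all forest0_ok
  · exact nodeOK_sound cen sem_all forest1_ok
  · exact nodeOK_sound cen sem_all forest2_ok
  · exact nodeOK_sound cen sem_all forest3_ok
  · exact nodeOK_sound cen sem_all forest4_ok
  · exact nodeOK_sound cen sem_all forest5_ok
  · exact nodeOK_sound cen sem_all forest6_ok
  · exact nodeOK_sound cen sem_all forest7_ok
  · exact nodeOK_sound cen sem_all forest8_ok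
  · exact nodeOK_sound cen sem_all forest9_ok
  · exact nodeOK_sound cen sem_all forest10_ok
  · exact nodeOK_sound cen sem_all forest11_ok
  · exact nodeOK_sound cen sem_all forest12_ok
  · exact nodeOK_sound cen sem_all forest14_ok
  · exact nodeOK_sound cen sem_all forest15_ok
  · exact nodeOK_sound cen sem_all forest16_ok
  · exact nodeOK_sound cen sem_all forest17_ok
  · exact nodeOK_sound cen sem_all forest18_ok
  · exact nodeOK_sound cen sem_all forest19_ok
  · exact nodeOK_sound cen sem_all forest20_ok

/-- the indices of the node stabilisers -/
def bound : ℕ → ℕ
  | 0 => 1
  | 1 => 3795
  | 2 => 318780
  | 3 => 1275120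
  | 4 => 5100480
  | 5 => 1912680
  | 6 => 478170
  | 7 => 26565
  | 8 => 11385
  | 9 => 2550240
  | 10 => 2550240
  | 11 => 1771
  | 12 => 53130
  | 14 => 212520
  | 15 => 7650720
  | 16 => 15301440
  | 17 => 40803840
  | 18 => 81607680
  | 19 => 12241152
  | 20 => 967680
  | _ => 0

theorem stab_bound : ∀ i ∈ nodeList, (nodeStab phi HH rep i).index ≤ bound i := by
  intro i hi
  simp only [nodeList, List.mem_cons, List.not_mem_nil, or_false] at hi
  rcases hi with rfl | rfl | rfl | rfl | rfl | rfl | rfl | rfl | rfl | rfl | rfl | rfl | rfl | rfl | rfl | rfl | rfl | rfl | rfl | rfl
  · exact stab_index_le sem_all loops0 (loopOK_spec loops0_ok) low0_ok (by decide) (by decide) card_M24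
  · exact stab_index_le sem_all loops1 (loopOK_spec loops1_ok) low1_ok (by decide) (by decide) card_M24
  · exact stab_index_le sem_all loops2 (loopOK_spec loops2_ok) low2_ok (by decide) (by decide) card_M24
  · exact stab_index_le sem_all loops3 (loopOK_spec loops3_ok) low3_ok (by decide) (by decide) card_M24
  · exact stab_index_le sem_all loops4 (loopOK_spec loops4_ok) low4_ok (by decide) (by decide) card_M24
  · exact stab_index_le sem_all loops5 (loopOK_spec loops5_ok) low5_ok (by decide) (by decide) card_M24
  · exact stab_index_le sem_all loops6 (loopOK_spec loops6_ok) low6_ok (by decide) (by decide) card_M24
  · exact stab_index_le sem_all loops7 (loopOK_spec loops7_ok) low7_ok (by decide) (by decide) card_M24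
  · exact stab_index_le sem_all loops8 (loopOK_spec loops8_ok) low8_ok (by decide) (by decide) card_M24
  · exact stab_index_le sem_all loops9 (loopOK_spec loops9_ok) low9_ok (by decide) (by decide) card_M24
  · exact stab_index_le sem_all loops10 (loopOK_spec loops10_ok) low10_ok (by decide) (by decide) card_M24
  · exact stab_index_le sem_all loops11 (loopOK_spec loops11_ok) low11_ok (by decide) (by decide) card_M24
  · exact stab_index_le sem_all loops12 (loopOK_spec loops12_ok) low12_ok (by decide) (by decide) card_M24
  · exact stab_index_le sem_all loops14 (loopOK_spec loops14_ok) low14_ok (by decide) (by decide) card_M24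
  · exact stab_index_le sem_all loops15 (loopOK_spec loops15_ok) low15_ok (by decide) (by decide) card_M24
  · exact stab_index_le sem_all loops16 (loopOK_spec loops16_ok) low16_ok (by decide) (by decide) card_M24
  · exact stab_index_le sem_all loops17 (loopOK_spec loops17_ok) low17_ok (by decide) (by decide) card_M24
  · exact stab_index_le sem_all loops18 (loopOK_spec loops18_ok) low18_ok (by decide) (by decide) card_M24
  · exact stab_index_le sem_all loops19 (loopOK_spec loops19_ok) low19_ok (by decide) (by decide) card_M24
  · exact stab_index_le sem_all loops20 (loopOK_spec loops20_ok) low20_ok (by decide) (by decide) card_M24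

/-- the index of `⟨x, y, h⟩` is nonzero and at most 173067389 -/
theorem HH_index_le : HH.index ≠ 0 ∧ HH.index ≤ 173067389 := by
  obtain ⟨h0, h⟩ := index_le cen gen_top rep_zero (nodes := nodeList) (by decide)
    (fun i hi g => by
      obtain ⟨p, hp, e⟩ := orbit_table g
      rw [e]
      exact cover i hi p hp)
  refine ⟨h0, h.trans ((List.sum_le_sum stab_bound).trans ?_)⟩
  decide

end Cfsg.Agent.H56.J4
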