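import Cfsg.Agent.H56.J4.E.Group

/-!
The order of `⟨x, y, h⟩` divides `2^11 |M24|`; hence the index is 173067389 once the order of the
presented group is divisible by `11^3 * 29 * 31 * 37 * 43`.
-/

set_option autoImplicit false

namespace Cfsg.Agent.H56.J4

open Cfsg Cfsg.Agent.Golay

theorem EE_pGroup : IsPGroup 2 E.EE := by
  have hfin := E.EE_card.1
  have key : ∀ a ∈ E.EE, ∀ b ∈ E.EE, Commute a b := by
    have h1 : ∀ a ∈ E.EE, ∀ b ∈ E.bs, Commute a b := by
      intro a ha b hb
      induction ha using Subgroup.closure_induction with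
      | mem c hc => exact E.bs_spec.2 c hc b hb
      | one => exact Commute.one_left b
      | mul x y _ _ hx hy => exact hx.mul_left hy
      | inv x _ hx => exact hx.inv_left
    intro a ha b hb
    induction hb using Subgroup.closure_induction with
    | mem c hc => exact h1 a ha c hc
    | one => exact Commute.one_right a
    | mul x y _ _ hx hy => exact hx.mul_right hy
    | inv x _ hx => exact hx.inv_right
  have hsq : ∀ a ∈ E.EE, a ^ 2 = 1 := by
    intro a ha
    induction ha using Subgroup.closure_induction with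
    | mem c hc => rw [pow_two]; exact E.bs_spec.1 c hc
    | one => exact one_pow 2
    | mul x y hx' hy' hx hy => rw [(key x hx' y hy').mul_pow, hx, hy, one_mul]
    | inv x _ hx => rw [inv_pow, hx, inv_one]
  intro a
  exact ⟨1, Subtype.ext (by rw [pow_one, Subgroup.coe_pow, Subgroup.coe_one]; exact hsq a a.2)⟩

theorem EE_card_dvd : Nat.card E.EE ∣ 2 ^ 11 := by
  have hfin := E.EE_card.1
  have : Fact (Nat.Prime 2) := ⟨Nat.prime_two⟩
  obtain ⟨n, hn⟩ := IsPGroup.iff_card.1 EE_pGroup
  rw [hn]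
  refine Nat.pow_dvd_pow 2 ?_
  by_contra hlt
  have h1 : 2 ^ 11 < 2 ^ n := Nat.pow_lt_pow_right (by norm_num) (not_le.1 hlt)
  have h2 := E.EE_card.2
  rw [hn] at h2
  norm_num at h1
  omega

theorem EE_le_HH : E.EE ≤ HH := by
  refine (Subgroup.closure_le _).2 fun a ha => ?_
  obtain ⟨k, -, rfl⟩ := List.mem_map.1 ha
  have hm : pv phi (E.pt' k) ∈ HH := by
    rw [pv_eq (E.val_pt k)]; exact range_le ⟨_, rfl⟩
  exact HH.mul_mem (HH.mul_mem (HH.inv_mem hm)
    (Subgroup.subset_closure (by simp))) hm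

theorem HH_eq_sup : HH = E.EE ⊔ phi.range := by
  refine le_antisymm ((Subgroup.closure_le _).2 ?_) (sup_le EE_le_HH range_le)
  rintro g (rfl | rfl | rfl)
  · exact Subgroup.mem_sup_right ⟨gX, phi_gX⟩
  · exact Subgroup.mem_sup_right ⟨gY, phi_gY⟩
  · exact Subgroup.mem_sup_left E.EE_facts.1

theorem HH_card_dvd : Nat.card HH ∣ 2 ^ 11 * 244823040 := by
  have hR : phi.range ≤ Subgroup.normalizer (E.EE : Set J) := by
    intro g hg
    rw [Subgroup.mem_normalizer_iff]
    intro a
    constructor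
    · intro ha
      have := E.range_normalizes g⁻¹ (phi.range.inv_mem hg) a ha
      rwa [inv_inv] at this
    · intro ha
      have := E.range_normalizes g hg _ ha
      simpa [mul_assoc] using this
  have hRc : Nat.card phi.range = 244823040 := by
    rw [← card_M24]; exact (Nat.card_congr (MonoidHom.ofInjective phi_injective).toEquiv).symm
  have h1 := Subgroup.relIndex_mul_relIndex ⊥ E.EE (E.EE ⊔ phi.range) bot_le le_sup_left
  rw [Subgroup.relIndex_bot_left, Subgroup.relIndex_bot_left, ← HH_eq_sup] at h1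
  have e : E.EE.relIndex (phi.range ⊔ E.EE) = E.EE.relIndex phi.range := by
    have := Subgroup.normal_subgroupOf_of_le_normalizer hR
    have := Subgroup.normal_subgroupOf_sup_of_le_normalizer hR
    simp only [Subgroup.relIndex, Subgroup.index]
    exact (Nat.card_congr (QuotientGroup.quotientInfEquivProdNormalizerQuotient phi.range E.EE hR).toEquiv).symm
  rw [← h1, HH_eq_sup, sup_comm, e]
  exact Nat.mul_dvd_mul EE_card_dvd (hRc ▸ Subgroup.relIndex_dvd_card _ _)

theorem index_eq_of_dvd (h : 11 ^ 3 * 29 * 31 * 37 * 43 ∣ Nat.card J) :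
    HH.index = 173067389 := by
  have hfin := E.finite_J
  have h0 := Subgroup.card_mul_index HH
  have hd : 11 ^ 3 * 29 * 31 * 37 * 43 ∣ 2 ^ 11 * 244823040 * HH.index :=
    h.trans (h0 ▸ Nat.mul_dvd_mul_right HH_card_dvd _)
  have hcop : Nat.Coprime 173067389 (2 ^ 21 * 3 ^ 3 * 5 * 7 * 23) := by norm_num
  have hd' : 173067389 ∣ 2 ^ 21 * 3 ^ 3 * 5 * 7 * 23 * HH.index := by
    refine Nat.dvd_of_mul_dvd_mul_left (by norm_num : 0 < 11) ?_
    refine (show 11 * 173067389 ∣ 11 ^ 3 * 29 * 31 * 37 * 43 by norm_num).trans (hd.trans ?_)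
    rw [show (2 : ℕ) ^ 11 * 244823040 = 11 * (2 ^ 21 * 3 ^ 3 * 5 * 7 * 23) by norm_num, mul_assoc]
  exact le_antisymm HH_index_le.2
    (Nat.le_of_dvd (Nat.pos_of_ne_zero HH_index_le.1) (hcop.dvd_of_dvd_mul_left hd'))

theorem card_eq_of (h : 11 ^ 3 * 29 * 31 * 37 * 43 ∣ Nat.card J) (hE : 2048 ≤ Nat.card E.EE)
    (hI : E.EE ⊓ phi.range = ⊥) : Nat.card J = 86775571046077562880 := by
  have hfin := E.finite_J
  have h0 := Subgroup.card_mul_index HH
  rw [index_eq_of_dvd h] at h0
  have hle := E.HH_card_le.2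
  have hge : 2048 * 244823040 ≤ Nat.card HH := by
    have hf := E.HH_card_le.1
    let f : E.EE × phi.range → HH := fun p =>
      ⟨p.1 * p.2, HH.mul_mem (EE_le_HH p.1.2) (range_le p.2.2)⟩
    have hinj : Function.Injective f := by
      rintro ⟨a, b⟩ ⟨a', b'⟩ hab
      have e : (a : J) * b = (a' : J) * b' := congrArg Subtype.val hab
      have e' : (a' : J)⁻¹ * a = (b' : J) * (b : J)⁻¹ := by
        calc (a' : J)⁻¹ * a = (a' : J)⁻¹ * ((a : J) * b) * (b : J)⁻¹ := by group
          _ = _ := by rw [e]; group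
      have hm : (a' : J)⁻¹ * a ∈ E.EE ⊓ phi.range :=
        ⟨E.EE.mul_mem (E.EE.inv_mem a'.2) a.2, e' ▸ phi.range.mul_mem b'.2 (phi.range.inv_mem b.2)⟩
      rw [hI, Subgroup.mem_bot] at hm
      have h1 : a = a' := Subtype.ext (inv_mul_eq_one.1 hm).symm
      subst h1
      exact Prod.ext rfl (Subtype.ext (mul_left_cancel e))
    have := Nat.card_le_card_of_injective f hinj
    rw [Nat.card_prod] at this
    refine le_trans ?_ this
    refine Nat.mul_le_mul hE ?_
    rw [← card_M24]
    exact le_of_eq (Nat.card_congr (MonoidHom.ofInjective phi_injective).toEquiv)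
  rw [← h0, le_antisymm hle hge]

end Cfsg.Agent.H56.J4
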