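import Cfsg.Agent.H56.J4.Up.LChain
import Cfsg.Agent.S0364

/-!
The orbit of the base trio has 3795 members and its stabiliser in `M24` is generated by two tables.
-/

set_option autoImplicit false
set_option maxRecDepth 100000

namespace Cfsg.Agent.H56.J4

open Cfsg Cfsg.Agent.Golay Up
open scoped Pointwise

/-- generators in `M24` -/
theorem val_xT : Val xT := ⟨validT_of_inM24 (by decide +kernel), mem_M24_of_inM24 (by decide +kernel)⟩
theorem val_yT : Val yT := ⟨validT_of_inM24 (by decide +kernel), mem_M24_of_inM24 (by decide +kernel)⟩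
theorem val_wT : Val wT := ⟨validT_of_inM24 (by decide +kernel), mem_M24_of_inM24 (by decide +kernel)⟩
theorem inv_xT : invOK xT xTi = true := by decide +kernel
theorem inv_yT : invOK yT yTi = true := by decide +kernel

/-- `x` in `M24` -/
noncomputable def gX : M24 := ⟨gv xT, gv_mem val_xT⟩
/-- `y` in `M24` -/
noncomputable def gY : M24 := ⟨gv yT, gv_mem val_yT⟩
/-- the second generator of the trio stabiliser -/
noncomputable def gW : M24 := ⟨gv wT, gv_mem val_wT⟩

theorem gv_xTi : gv xTi = (gv xT)⁻¹ := (invOK_spec inv_xT).2.2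
theorem gv_yTi : gv yTi = (gv yT)⁻¹ := (invOK_spec inv_yT).2.2

theorem gW_word : gW = gY * gX * gY * (gX * gY⁻¹) ^ 2 * (gX * gY) ^ 3 := by
  have hv : validT yTi = true := (invOK_spec inv_yT).2.1
  have h : mulR yT (mulR xT (mulR yT (mulR xT (mulR yTi (mulR xT (mulR yTi (mulR xT (mulR yT
      (mulR xT (mulR yT (mulR xT yT))))))))))) = wT := by decide +kernel
  apply Subtype.ext
  have hx := val_xT.1
  have hy := val_yT.1
  have m : ∀ {A B : ℕ}, validT A = true → validT B = true → validT (mulR A B) = true :=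
    fun hA hB => (mulR_spec hA hB).1
  have q11 : validT (mulR xT yT) = true := m hx hy
  have e11 : gv (mulR xT yT) = gv xT * gv yT := by rw [gv_mulR hx hy]
  have q10 : validT (mulR yT (mulR xT yT)) = true := m hy q11
  have e10 : gv (mulR yT (mulR xT yT)) = gv yT * (gv xT * gv yT) := by rw [gv_mulR hy q11, e11]
  have q9 : validT (mulR xT (mulR yT (mulR xT yT))) = true := m hx q10
  have e9 : gv (mulR xT (mulR yT (mulR xT yT))) = gv xT * (gv yT * (gv xT * gv yT)) := by rw [gv_mulR hx q10, e10]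
  have q8 : validT (mulR yT (mulR xT (mulR yT (mulR xT yT)))) = true := m hy q9
  have e8 : gv (mulR yT (mulR xT (mulR yT (mulR xT yT)))) = gv yT * (gv xT * (gv yT * (gv xT * gv yT))) := by rw [gv_mulR hy q9, e9]
  have q7 : validT (mulR xT (mulR yT (mulR xT (mulR yT (mulR xT yT))))) = true := m hx q8
  have e7 : gv (mulR xT (mulR yT (mulR xT (mulR yT (mulR xT yT))))) = gv xT * (gv yT * (gv xT * (gv yT * (gv xT * gv yT)))) := by rw [gv_mulR hx q8, e8]
  have q6 : validT (mulR yTi (mulR xT (mulR yT (mulR xT (mulR yT (mulR xT yT)))))) = true := m hv q7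
  have e6 : gv (mulR yTi (mulR xT (mulR yT (mulR xT (mulR yT (mulR xT yT)))))) = (gv yT)⁻¹ * (gv xT * (gv yT * (gv xT * (gv yT * (gv xT * gv yT))))) := by rw [gv_mulR hv q7, e7, gv_yTi]
  have q5 : validT (mulR xT (mulR yTi (mulR xT (mulR yT (mulR xT (mulR yT (mulR xT yT))))))) = true := m hx q6
  have e5 : gv (mulR xT (mulR yTi (mulR xT (mulR yT (mulR xT (mulR yT (mulR xT yT))))))) = gv xT * ((gv yT)⁻¹ * (gv xT * (gv yT * (gv xT * (gv yT * (gv xT * gv yT)))))) := by rw [gv_mulR hx q6, e6]
  have q4 : validT (mulR yTi (mulR xT (mulR yTi (mulR xT (mulR yT (mulR xT (mulR yT (mulR xT yT)))))))) = true := m hv q5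
  have e4 : gv (mulR yTi (mulR xT (mulR yTi (mulR xT (mulR yT (mulR xT (mulR yT (mulR xT yT)))))))) = (gv yT)⁻¹ * (gv xT * ((gv yT)⁻¹ * (gv xT * (gv yT * (gv xT * (gv yT * (gv xT * gv yT))))))) := by rw [gv_mulR hv q5, e5, gv_yTi]
  have q3 : validT (mulR xT (mulR yTi (mulR xT (mulR yTi (mulR xT (mulR yT (mulR xT (mulR yT (mulR xT yT))))))))) = true := m hx q4
  have e3 : gv (mulR xT (mulR yTi (mulR xT (mulR yTi (mulR xT (mulR yT (mulR xT (mulR yT (mulR xT yT))))))))) = gv xT * ((gv yT)⁻¹ * (gv xT * ((gv yT)⁻¹ * (gv xT * (gv yT * (gv xT * (gv yT * (gv xT * gv yT)))))))) := by rw [gv_mulR hx q4, e4]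
  have q2 : validT (mulR yT (mulR xT (mulR yTi (mulR xT (mulR yTi (mulR xT (mulR yT (mulR xT (mulR yT (mulR xT yT)))))))))) = true := m hy q3
  have e2 : gv (mulR yT (mulR xT (mulR yTi (mulR xT (mulR yTi (mulR xT (mulR yT (mulR xT (mulR yT (mulR xT yT)))))))))) = gv yT * (gv xT * ((gv yT)⁻¹ * (gv xT * ((gv yT)⁻¹ * (gv xT * (gv yT * (gv xT * (gv yT * (gv xT * gv yT))))))))) := by rw [gv_mulR hy q3, e3]
  have q1 : validT (mulR xT (mulR yT (mulR xT (mulR yTi (mulR xT (mulR yTi (mulR xT (mulR yT (mulR xT (mulR yT (mulR xT yT))))))))))) = true := m hx q2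
  have e1 : gv (mulR xT (mulR yT (mulR xT (mulR yTi (mulR xT (mulR yTi (mulR xT (mulR yT (mulR xT (mulR yT (mulR xT yT))))))))))) = gv xT * (gv yT * (gv xT * ((gv yT)⁻¹ * (gv xT * ((gv yT)⁻¹ * (gv xT * (gv yT * (gv xT * (gv yT * (gv xT * gv yT)))))))))) := by rw [gv_mulR hx q2, e2]
  have q0 : validT (mulR yT (mulR xT (mulR yT (mulR xT (mulR yTi (mulR xT (mulR yTi (mulR xT (mulR yT (mulR xT (mulR yT (mulR xT yT)))))))))))) = true := m hy q1
  have e0 : gv (mulR yT (mulR xT (mulR yT (mulR xT (mulR yTi (mulR xT (mulR yTi (mulR xT (mulR yT (mulR xT (mulR yT (mulR xT yT)))))))))))) = gv yT * (gv xT * (gv yT * (gv xT * ((gv yT)⁻¹ * (gv xT * ((gv yT)⁻¹ * (gv xT * (gv yT * (gv xT * (gv yT * (gv xT * gv yT))))))))))) := by rw [gv_mulR hy q1, e1]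
  have := congrArg gv h
  rw [e0] at this
  change gv wT = _
  rw [← this]
  simp only [gX, gY, Subgroup.coe_mul, Subgroup.coe_inv, pow_succ, pow_zero, one_mul, mul_assoc]

/-- the base trio -/
noncomputable def S0 : Finset (Finset GolayPt) := kSet k0

/-- step in the breadth-first numbering of trios -/
noncomputable def parOK : ℕ → Bool
  | 0 => Nat.beq (lookK kt 0) k0
  | p + 1 => parOK p && frc (lookI ktPar (p + 1)) fun v =>
      Nat.blt (v / 2) (p + 1) &&
        Nat.beq (imgK (bif Nat.beq (v % 2) 0 then xT else yT) (lookK kt (v / 2))) (lookK kt (p + 1))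

/-- the trios are in normal form and increase along `ktOrd` -/
noncomputable def incOK : ℕ → Bool
  | 0 => Nat.blt (lookI ktOrd 0) 3795 && kCanon (lookK kt (lookI ktOrd 0))
  | k + 1 => incOK k && frc (lookI ktOrd (k + 1)) fun p =>
      Nat.blt p 3795 && kCanon (lookK kt p) && Nat.blt (lookK kt (lookI ktOrd k)) (lookK kt p)

theorem parOK_ok : parOK 3794 = true := by decide +kernel
theorem incOK_ok : incOK 3794 = true := by decide +kernel

theorem inOrbit : ∀ p ≤ 3794, ∃ g : M24, (g : Equiv.Perm GolayPt) • S0 = kSet (lookK kt p) := by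
  have hall : ∀ n, parOK n = true → ∀ p ≤ n,
      (p = 0 ∧ lookK kt p = k0) ∨ ∃ v T, v < p ∧ Val T ∧ imgK T (lookK kt v) = lookK kt p := by
    intro n
    induction n with
    | zero =>
      intro h p hp
      obtain rfl : p = 0 := by omega
      exact Or.inl ⟨rfl, by simpa [parOK] using h⟩
    | succ n ih =>
      intro h p hp
      simp only [parOK, Bool.and_eq_true, frc_eq, Nat.blt_eq, Nat.beq_eq] at h
      rcases Nat.lt_or_ge p (n + 1) with hlt | hge
      · exact ih h.1 p (by omega)
      · obtain rfl : p = n + 1 := by omega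
        refine Or.inr ⟨_, _, h.2.1, ?_, h.2.2⟩
        cases Nat.beq (lookI ktPar (n + 1) % 2) 0
        · exact val_yT
        · exact val_xT
  have hall' := hall 3794 parOK_ok
  intro p
  induction p using Nat.strong_induction_on with
  | _ p ih =>
    intro hp
    rcases hall' p hp with ⟨rfl, h⟩ | ⟨v, T, hv, hT, h⟩
    · exact ⟨1, by rw [h, Subgroup.coe_one, one_smul]; rfl⟩
    · obtain ⟨g, hg⟩ := ih v hv (by omega)
      refine ⟨⟨mkPerm T, hT.2⟩ * g, ?_⟩
      rw [Subgroup.coe_mul, mul_smul, hg, ← kSet_imgK hT.1, h]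

theorem inc_spec : ∀ n, incOK n = true →
    (∀ k ≤ n, lookI ktOrd k < 3795 ∧ kCanon (lookK kt (lookI ktOrd k)) = true) ∧
      ∀ k ≤ n, ∀ j < k, lookK kt (lookI ktOrd j) < lookK kt (lookI ktOrd k) := by
  intro n
  induction n with
  | zero =>
    intro h
    simp only [incOK, Bool.and_eq_true, Nat.blt_eq] at h
    refine ⟨fun k hk => ?_, fun k hk j hj => by omega⟩
    obtain rfl : k = 0 := by omega
    exact h
  | succ n ih =>
    intro h
    simp only [incOK, Bool.and_eq_true, frc_eq, Nat.blt_eq] at h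
    obtain ⟨h1, ⟨h2, h3⟩, h4⟩ := h
    obtain ⟨a, b⟩ := ih h1
    refine ⟨fun k hk => ?_, fun k hk j hj => ?_⟩
    · rcases Nat.lt_or_ge k (n + 1) with hlt | hge
      · exact a k (by omega)
      · obtain rfl : k = n + 1 := by omega
        exact ⟨h2, h3⟩
    · rcases Nat.lt_or_ge k (n + 1) with hlt | hge
      · exact b k (by omega) j hj
      · obtain rfl : k = n + 1 := by omega
        rcases Nat.lt_or_ge j n with hj' | hj'
        · exact (b n le_rfl j hj').trans h4
        · obtain rfl : j = n := by omega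
          exact h4

/-- the trios of the table -/
noncomputable def trioSet : Finset (Finset (Finset GolayPt)) :=
  (Finset.range 3795).image fun k => kSet (lookK kt (lookI ktOrd k))

theorem card_trioSet : trioSet.card = 3795 := by
  obtain ⟨a, b⟩ := inc_spec 3794 incOK_ok
  rw [trioSet, Finset.card_image_of_injOn, Finset.card_range]
  intro i hi j hj h
  simp only [Finset.coe_range, Set.mem_Iio] at hi hj
  have e := kSet_inj (a i (by omega)).2 (a j (by omega)).2 h
  rcases lt_trichotomy i j with hlt | heq | hgt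
  · exact absurd e (b j (by omega) i hlt).ne
  · exact heq
  · exact absurd e (b i (by omega) j hgt).ne'

theorem trioSet_subset : (trioSet : Set (Finset (Finset GolayPt))) ⊆ MulAction.orbit M24 S0 := by
  intro s hs
  obtain ⟨k, hk, rfl⟩ := Finset.mem_image.1 hs
  rw [Finset.mem_range] at hk
  obtain ⟨g, hg⟩ := inOrbit _ (by have := ((inc_spec 3794 incOK_ok).1 k (by omega)).1; omega :
    lookI ktOrd k ≤ 3794)
  exact ⟨g, hg⟩

theorem card_M24 : Nat.card M24 = 244823040 := Cfsg.Agent.S0364.result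

/-- the subgroup generated by the two tables -/
noncomputable def Lsub : Subgroup M24 := Subgroup.closure {gX, gW}

theorem Lsub_le : Lsub ≤ MulAction.stabilizer M24 S0 := by
  refine (Subgroup.closure_le _).2 ?_
  have hf : ∀ {T : ℕ}, validT T = true → imgK T k0 = k0 → gv T • S0 = S0 := by
    intro T hT h
    have := kSet_imgK' hT k0
    rw [h, eq_inv_smul_iff] at this
    exact this
  rintro g (rfl | rfl)
  · exact hf val_xT.1 (by decide +kernel)
  · exact hf val_wT.1 (by decide +kernel)

theorem Lsub_card : 64512 ≤ Nat.card Lsub := by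
  have := genLow_card low_ok (K := Lsub.map M24.subtype) (by
    have h : ∀ (T : ℕ) (hT : Val T), (⟨gv T, gv_mem hT⟩ : M24) ∈ Lsub →
        mkPerm T ∈ Lsub.map M24.subtype := fun T hT hm =>
      ⟨_, Lsub.inv_mem hm, by simp [gv]⟩
    intro e he
    simp only [List.mem_cons, List.not_mem_nil, or_false] at he
    rcases he with rfl | rfl
    · exact ⟨val_xT.1, h _ val_xT (Subgroup.subset_closure (Set.mem_insert _ _))⟩
    · exact ⟨val_wT.1, h _ val_wT (Subgroup.subset_closure (Set.mem_insert_of_mem _ rfl))⟩)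
  rwa [Nat.card_congr (Subgroup.equivMapOfInjective _ _ M24.subtype_injective).toEquiv.symm] at this

theorem orbit_facts : (MulAction.orbit M24 S0).ncard = 3795 ∧
    Nat.card (MulAction.stabilizer M24 S0) = 64512 := by
  have h1 : 3795 ≤ (MulAction.orbit M24 S0).ncard := by
    have := Set.ncard_le_ncard trioSet_subset (Set.toFinite _)
    rwa [Set.ncard_coe_finset, card_trioSet] at this
  have h2 : 64512 ≤ Nat.card (MulAction.stabilizer M24 S0) :=
    Lsub_card.trans (Subgroup.card_le_of_le Lsub_le)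
  have h3 := Subgroup.card_mul_index (MulAction.stabilizer M24 S0)
  rw [MulAction.index_stabilizer, card_M24] at h3
  constructor <;> nlinarith

/-- every image of the base trio is in the table -/
theorem orbit_table (g : M24) :
    ∃ p < 3795, (g : Equiv.Perm GolayPt) • S0 = kSet (lookK kt p) := by
  have he : (trioSet : Set (Finset (Finset GolayPt))) = MulAction.orbit M24 S0 :=
    Set.eq_of_subset_of_ncard_le trioSet_subset
      (by rw [orbit_facts.1, Set.ncard_coe_finset, card_trioSet]) (Set.toFinite _)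
  have : (g : Equiv.Perm GolayPt) • S0 ∈ (trioSet : Set (Finset (Finset GolayPt))) := by
    rw [he]; exact ⟨g, rfl⟩
  obtain ⟨k, hk, e⟩ := Finset.mem_image.1 this
  rw [Finset.mem_range] at hk
  exact ⟨_, ((inc_spec 3794 incOK_ok).1 k (by omega)).1, e.symm⟩

/-- the stabiliser of the base trio -/
theorem stab_eq : MulAction.stabilizer M24 S0 = Lsub :=
  (Subgroup.eq_of_le_of_card_ge Lsub_le (orbit_facts.2 ▸ Lsub_card)).symm

/-- an element commuting with `x` and `w` commutes with the stabiliser -/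
theorem cen_of_comm {G : Type*} [Group G] (φ : M24 →* G) (t : G) (ht : t * t = 1)
    (hx : φ gX * t = t * φ gX) (hw : φ gW * t = t * φ gW) : Cen φ t S0 := by
  refine ⟨ht, fun g hg => ?_⟩
  have hm : g ∈ Lsub := by rw [← stab_eq]; exact hg
  unfold Lsub at hm
  induction hm using Subgroup.closure_induction with
  | mem z hz => rcases hz with rfl | rfl; exacts [hx, hw]
  | one => simp
  | mul a b ha hb iha ihb =>
    rw [map_mul, mul_assoc, ihb ?_, ← mul_assoc, iha ?_, mul_assoc]
    · exact (stab_eq ▸ ha : a ∈ MulAction.stabilizer M24 S0)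
    · exact (stab_eq ▸ hb : b ∈ MulAction.stabilizer M24 S0)
  | inv a ha iha =>
    rw [map_inv, eq_comm, eq_inv_mul_iff_mul_eq, ← mul_assoc, iha ?_, mul_inv_cancel_right]
    exact (stab_eq ▸ ha : a ∈ MulAction.stabilizer M24 S0)

end Cfsg.Agent.H56.J4
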