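import Cfsg.Agent.H56.J4.Engine
import Cfsg.Agent.Golay.Chain

/-!
Closed tables for the double-coset enumeration, lower bounds for stabilisers and the index bound.
-/

set_option autoImplicit false

namespace Cfsg.Agent.H56.J4

open Cfsg Cfsg.Agent.Golay
open scoped Pointwise

/-! ### Lower bounds from transversals -/

/-- extend a list of tables by products -/
noncomputable def growE : List ℕ → List (ℕ × ℕ) → (List ℕ → Bool) → Bool
  | es, [], k => k es
  | es, (a, b) :: ps, k => frc (mulR (es.getD a idN) (es.getD b idN)) fun c => growE (es ++ [c]) ps k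

/-- transversal levels: every element fixes the earlier base points -/
noncomputable def lowOK (es : List ℕ) : List ℕ → List (ℕ × List ℕ) → Bool
  | _, [] => true
  | fixd, (b, ts) :: rest =>
    Nat.blt b 24 && Nat.beq (popCnt (orbitMask (ts.map fun k => es.getD k idN) b)) ts.length &&
      (ts.all fun k => fixd.all fun c => Nat.beq (app (es.getD k idN) c) c) &&
        lowOK es (b :: fixd) rest

theorem lowOK_card {es : List ℕ} : ∀ (L : List (ℕ × List ℕ)) (fixd : List ℕ)
    (K : Subgroup (Equiv.Perm GolayPt)),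
    (∀ k, validT (es.getD k idN) = true) →
    (∀ k, (∀ c ∈ fixd, app (es.getD k idN) c = c) → mkPerm (es.getD k idN) ∈ K) →
    lowOK es fixd L = true → (∀ c ∈ fixd, c < 24) →
    (L.map fun l => l.2.length).prod ≤ Nat.card K := by
  intro L
  induction L with
  | nil => intro fixd K _ _ _ _; simpa using Nat.one_le_iff_ne_zero.2 Nat.card_pos.ne'
  | cons l rest ih =>
    obtain ⟨b, ts⟩ := l
    intro fixd K hv hK h hfix
    simp only [lowOK, Bool.and_eq_true, Nat.blt_eq, Nat.beq_eq, List.all_eq_true] at h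
    obtain ⟨⟨⟨hb, hc⟩, hfx⟩, hrest⟩ := h
    rw [List.map_cons, List.prod_cons, card_eq_orbit_mul_stab K (pt b)]
    refine Nat.mul_le_mul ?_ (ih (b :: fixd) _ hv ?_ hrest ?_)
    · have hs : (ptSet (orbitMask (ts.map fun k => es.getD k idN) b) : Set GolayPt) ⊆
          MulAction.orbit K (pt b) := by
        intro q hq
        rw [Finset.mem_coe, mem_ptSet] at hq
        obtain ⟨T, hT, hat⟩ := (testBit_orbitMask _ _ _).1 hq
        obtain ⟨k, hk, rfl⟩ := List.mem_map.1 hT
        refine ⟨⟨_, hK k (fun c hc' => hfx k hk c hc')⟩, ?_⟩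
        change mkPerm (es.getD k idN) (pt b) = q
        rw [mkPerm_pt (hv k) hb, hat, pt_idx]
      have := Set.ncard_le_ncard hs (Set.toFinite _)
      rwa [Set.ncard_coe_finset, card_ptSet, hc] at this
    · intro k hk
      refine ⟨hK k fun c hc' => hk c (List.mem_cons_of_mem _ hc'), ?_⟩
      show mkPerm (es.getD k idN) • pt b = pt b
      rw [Equiv.Perm.smul_def, mkPerm_pt (hv k) hb, hk b (by simp)]
    · intro c hc'
      rcases List.mem_cons.1 hc' with rfl | hc'
      · exact hb
      · exact hfix c hc'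

/-- the complete check: a lower bound `n` for the group generated by the tables `gens` -/
noncomputable def genLow (gens : List ℕ) (ps : List (ℕ × ℕ)) (L : List (ℕ × List ℕ)) (n : ℕ) :
    Bool :=
  growE gens ps fun es => lowOK es [] L && Nat.beq (L.map fun l => l.2.length).prod n

theorem growE_spec {K : Subgroup (Equiv.Perm GolayPt)} : ∀ (ps : List (ℕ × ℕ)) (es : List ℕ)
    (k : List ℕ → Bool), (∀ e ∈ es, validT e = true ∧ mkPerm e ∈ K) → growE es ps k = true →
    ∃ es', k es' = true ∧ ∀ e ∈ es', validT e = true ∧ mkPerm e ∈ K := by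
  intro ps
  induction ps with
  | nil => intro es k he h; exact ⟨es, h, he⟩
  | cons p ps ih =>
    obtain ⟨a, b⟩ := p
    intro es k he h
    simp only [growE, frc_eq] at h
    refine ih _ k ?_ h
    have hd : ∀ l, validT (es.getD l idN) = true ∧ mkPerm (es.getD l idN) ∈ K := by
      intro l
      rw [List.getD_eq_getElem?_getD]
      cases hl : es[l]? with
      | none => exact ⟨idN_spec.1, idN_spec.2 ▸ K.one_mem⟩
      | some e => exact he e (List.mem_of_getElem? hl)
    intro e hem
    rcases List.mem_append.1 hem with hem | hem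
    · exact he e hem
    · rw [List.mem_singleton] at hem
      subst hem
      obtain ⟨h1, h2⟩ := mulR_spec (hd a).1 (hd b).1
      exact ⟨h1, h2 ▸ K.mul_mem (hd b).2 (hd a).2⟩

theorem genLow_card {gens : List ℕ} {ps : List (ℕ × ℕ)} {L : List (ℕ × List ℕ)} {n : ℕ}
    (h : genLow gens ps L n = true) {K : Subgroup (Equiv.Perm GolayPt)}
    (hg : ∀ e ∈ gens, validT e = true ∧ mkPerm e ∈ K) : n ≤ Nat.card K := by
  obtain ⟨es, hes, he⟩ := growE_spec ps gens _ hg h
  simp only [Bool.and_eq_true, Nat.beq_eq] at hes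
  obtain ⟨h1, rfl⟩ := hes
  have hd : ∀ l, validT (es.getD l idN) = true ∧ mkPerm (es.getD l idN) ∈ K := by
    intro l
    rw [List.getD_eq_getElem?_getD]
    cases hl : es[l]? with
    | none => exact ⟨idN_spec.1, idN_spec.2 ▸ K.one_mem⟩
    | some e => exact he e (List.mem_of_getElem? hl)
  exact lowOK_card L [] K (fun k => (hd k).1) (fun k _ => (hd k).2) h1 (by simp)

/-! ### Closed tables -/

/-- one node: walk a spanning forest of the trios -/
noncomputable def treeOK (tb kt : List ℕ) (n : ℕ) (nodes : List ℕ) (i : ℕ) :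
    List ℕ → ℕ → (ℕ → Bool) → Bool
  | [], R, k => k R
  | v :: vs, R, k =>
    frc (v &&& 4095) fun p => frc ((v >>> 12) &&& 4095) fun par => frc (v >>> 25) fun fid =>
      Nat.blt fid n && frc (look tb fid) fun f => Nat.beq (fI f) i &&
        (bif Nat.beq ((v >>> 24) &&& 1) 1 then
          fT f && Nat.beq (fK f) (lookK kt p) && nodes.any (fun j => Nat.beq j (fJ f))
        else
          (!fT f) && Nat.beq (fJ f) i && R.testBit par &&
            Nat.beq (imgK (fU f) (lookK kt par)) (lookK kt p)) &&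
        frc (R ||| (1 <<< p)) fun R' => treeOK tb kt n nodes i vs R' k

/-- all trios are reached from the node -/
noncomputable def nodeOK (tb kt : List ℕ) (n : ℕ) (nodes : List ℕ) (i : ℕ) (vs : List ℕ) :
    Bool :=
  treeOK tb kt n nodes i vs 0 fun R => Nat.beq R (2 ^ 3795 - 1)

/-- facts giving loops at a node -/
noncomputable def loopOK (tb : List ℕ) (n i : ℕ) (fids : List ℕ) : Bool :=
  fids.all fun fid => Nat.blt fid n && frc (look tb fid) fun f =>
    (!fT f) && Nat.beq (fI f) i && Nat.beq (fJ f) i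

theorem loopOK_spec {tb : List ℕ} {n i : ℕ} {fids : List ℕ} (h : loopOK tb n i fids = true) :
    ∀ fid ∈ fids, fid < n ∧ fT (look tb fid) = false ∧ fI (look tb fid) = i ∧
      fJ (look tb fid) = i := by
  simp only [loopOK, List.all_eq_true, Bool.and_eq_true, Nat.blt_eq, frc_eq, Nat.beq_eq,
    Bool.not_eq_true'] at h
  intro fid hf
  obtain ⟨h1, ⟨h2, h3⟩, h4⟩ := h fid hf
  exact ⟨h1, h2, h3, h4⟩

section Sem

variable {G : Type*} [Group G] (φ : M24 →* G) (t : G) (S0 : Finset (Finset GolayPt))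
  (H : Subgroup G) (r : ℕ → G) (nodes : List ℕ)

/-- a product leads into the table -/
def Cov (g : G) : Prop := ∃ j ∈ nodes, ∃ m : M24, REq H g (r j * φ m)

variable {φ t S0 H r nodes}

theorem treeOK_sound (hC : Cen φ t S0) {tb kt : List ℕ} {n i : ℕ}
    (hF : ∀ k < n, Sem φ t S0 H r (look tb k)) :
    ∀ (vs : List ℕ) (R : ℕ) (k : ℕ → Bool),
      (∀ p, R.testBit p = true → Cov φ H r nodes (r i * tK φ t S0 (lookK kt p))) →
      treeOK tb kt n nodes i vs R k = true →
      ∃ R', k R' = true ∧ ∀ p, R'.testBit p = true → Cov φ H r nodes (r i * tK φ t S0 (lookK kt p)) := by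
  intro vs
  induction vs with
  | nil => intro R k hR h; exact ⟨R, h, hR⟩
  | cons v vs ih =>
    intro R k hR h
    simp only [treeOK, frc_eq, Bool.and_eq_true, Nat.blt_eq, Nat.beq_eq] at h
    obtain ⟨hn, ⟨hi, hstep⟩, h⟩ := h
    obtain ⟨hU, hV, hUV, hv⟩ := hF _ hn
    refine ih _ k ?_ h
    intro p hp
    rw [Nat.testBit_or, Bool.or_eq_true] at hp
    rcases hp with hp | hp
    · exact hR p hp
    rw [Nat.one_shiftLeft, Nat.testBit_two_pow, decide_eq_true_eq] at hp
    subst hp
    generalize look tb (v >>> 25) = f at hi hstep hU hV hUV hv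
    subst hi
    cases hb : Nat.beq ((v >>> 24) &&& 1) 1 with
    | true =>
      simp only [hb, cond_true, Bool.and_eq_true, Nat.beq_eq, List.any_eq_true] at hstep
      obtain ⟨⟨hT, hK⟩, j, hj, rfl⟩ := hstep
      rw [hT, if_pos rfl, hK, pv_eq hU] at hv
      exact ⟨_, hj, _, hv⟩
    | false =>
      simp only [hb, cond_false, Bool.and_eq_true, Nat.beq_eq, Bool.not_eq_true'] at hstep
      obtain ⟨⟨⟨hT, hJ⟩, hpar⟩, hK⟩ := hstep
      rw [hT, if_neg Bool.false_ne_true, hJ] at hv
      obtain ⟨j, hj, m, hm⟩ := hR _ hpar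
      rw [← hK, tK_imgK hC hU]
      refine ⟨j, hj, m * ⟨gv (fU f), gv_mem hU⟩, ?_⟩
      rw [map_mul, ← pv_eq hU]
      have e := hm.mul (pv φ (fU f))
      rw [mul_assoc (r j)] at e
      refine REq.trans ?_ e
      have h' := hv.symm.mul ((pv φ (fU f))⁻¹ * tK φ t S0 (lookK kt ((v >>> 12) &&& 4095)) * pv φ (fU f))
      convert h' using 1 <;> group

theorem nodeOK_sound (hC : Cen φ t S0) {tb kt : List ℕ} {n i : ℕ}
    (hF : ∀ k < n, Sem φ t S0 H r (look tb k)) {vs : List ℕ}
    (h : nodeOK tb kt n nodes i vs = true) :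
    ∀ p < 3795, Cov φ H r nodes (r i * tK φ t S0 (lookK kt p)) := by
  obtain ⟨R, hR, hc⟩ := treeOK_sound hC hF vs 0 _ (by simp) h
  rw [Nat.beq_eq] at hR
  intro p hp
  exact hc p (by rw [hR, Nat.testBit_two_pow_sub_one]; simpa using hp)

/-- the stabiliser of a node -/
def nodeStab (φ : M24 →* G) (H : Subgroup G) (r : ℕ → G) (i : ℕ) : Subgroup M24 where
  carrier := {m | REq H (r i * φ m) (r i)}
  one_mem' := by simp [REq]
  mul_mem' {a b} ha hb := by
    change REq H (r i * φ (a * b)) (r i)
    rw [map_mul, ← mul_assoc]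
    exact (REq.mul ha (φ b)).trans hb
  inv_mem' {a} ha := by
    change REq H (r i * φ a⁻¹) (r i)
    have := (REq.mul (c := (φ a)⁻¹) ha).symm
    simpa [mul_assoc] using this

/-- a closed table bounds the index -/
theorem index_le (hC : Cen φ t S0) (hgen : Subgroup.closure (Set.range φ ∪ {t}) = ⊤)
    (hr0 : r 0 = 1) (h0 : 0 ∈ nodes)
    (hcov : ∀ i ∈ nodes, ∀ g : M24,
      Cov φ H r nodes (r i * tau φ t S0 ((g : Equiv.Perm GolayPt) • S0))) :
    H.index ≠ 0 ∧ H.index ≤ (nodes.map fun i => (nodeStab φ H r i).index).sum := by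
  have hall : ∀ g : G, Cov φ H r nodes g := by
    intro g
    have hg : g ∈ Subgroup.closure (Set.range φ ∪ {t}) := hgen ▸ Subgroup.mem_top g
    have key : ∀ x, x ∈ Subgroup.closure (Set.range φ ∪ {t}) →
        ∀ a, Cov φ H r nodes a → Cov φ H r nodes (a * x) ∧ Cov φ H r nodes (a * x⁻¹) := by
      intro x hx
      have ht : ∀ a, Cov φ H r nodes a → Cov φ H r nodes (a * t) := by
        rintro a ⟨i, hi, m, hm⟩
        obtain ⟨j, hj, m', hm'⟩ := hcov i hi m
        refine ⟨j, hj, m' * m, ?_⟩
        rw [tau_base hC] at hm'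
        refine (hm.mul t).trans ?_
        have := hm'.mul (φ m)
        rw [map_mul, ← mul_assoc]
        convert this using 1
        group
      induction hx using Subgroup.closure_induction with
      | mem y hy =>
        intro a ha
        rcases hy with ⟨m, rfl⟩ | hy
        · obtain ⟨i, hi, n, hn⟩ := ha
          exact ⟨⟨i, hi, n * m, by simpa [mul_assoc] using hn.mul (φ m)⟩,
            ⟨i, hi, n * m⁻¹, by simpa [mul_assoc] using hn.mul (φ m)⁻¹⟩⟩
        · rw [Set.mem_singleton_iff] at hy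
          subst hy
          rw [← eq_inv_of_mul_eq_one_left hC.1]
          exact ⟨ht a ha, ht a ha⟩
      | one => intro a ha; simpa using ha
      | mul y z _ _ hy hz =>
        intro a ha
        rw [← mul_assoc, mul_inv_rev, ← mul_assoc]
        exact ⟨(hz _ (hy a ha).1).1, (hy _ (hz a ha).2).2⟩
      | inv y _ hy => intro a ha; rw [inv_inv]; exact ⟨(hy a ha).2, (hy a ha).1⟩
    have := (key g hg 1 ⟨0, h0, 1, by simp [REq, hr0]⟩).1
    simpa using this
  classical
  let F : ℕ → M24 → G ⧸ H := fun i m => QuotientGroup.mk (r i * φ m)⁻¹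
  have hF : ∀ i, (Set.range (F i)).ncard ≤ (nodeStab φ H r i).index := by
    intro i
    rw [Subgroup.index]
    let Fq : M24 ⧸ nodeStab φ H r i → G ⧸ H := Quotient.lift (fun m => F i m⁻¹) (by
      intro a b hab
      rw [← Quotient.eq_iff_equiv, Quotient.eq, QuotientGroup.leftRel_apply] at hab
      have h := (REq.mul (c := φ b⁻¹) (hab : REq H (r i * φ (a⁻¹ * b)) (r i)))
      simp only [F]
      rw [QuotientGroup.eq]
      simpa [REq, mul_assoc] using h)
    have hsub : Set.range (F i) ⊆ Set.range Fq := by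
      rintro _ ⟨m, rfl⟩
      exact ⟨QuotientGroup.mk m⁻¹, by show F i m⁻¹⁻¹ = _; rw [inv_inv]⟩
    calc (Set.range (F i)).ncard ≤ (Set.range Fq).ncard :=
          Set.ncard_le_ncard hsub (Set.finite_range Fq)
      _ ≤ _ := by
          rw [← Set.image_univ, ← Set.ncard_univ]
          exact Set.ncard_image_le (Set.toFinite _)
  have hU : (⋃ i ∈ nodes.toFinset, Set.range (F i)) = (Set.univ : Set (G ⧸ H)) := by
    apply Set.eq_univ_of_forall
    intro q
    obtain ⟨g, rfl⟩ := QuotientGroup.mk_surjective q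
    obtain ⟨j, hj, m, hm⟩ := hall g⁻¹
    refine Set.mem_iUnion₂.2 ⟨j, List.mem_toFinset.2 hj, m, ?_⟩
    simp only [F]
    rw [QuotientGroup.eq]
    simpa [REq] using H.inv_mem hm
  have hfin : Finite (G ⧸ H) := by
    rw [← Set.finite_univ_iff, ← hU]
    exact Set.Finite.biUnion (Finset.finite_toSet _) fun i _ => Set.finite_range _
  refine ⟨(@Subgroup.FiniteIndex.index_ne_zero _ _ H (Subgroup.finiteIndex_of_finite_quotient)), ?_⟩
  rw [Subgroup.index, ← Set.ncard_univ, ← hU]
  refine (Finset.set_ncard_biUnion_le _ _).trans ((Finset.sum_le_sum fun i _ => hF i).trans ?_)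
  rw [Finset.sum_list_map_count]
  refine Finset.sum_le_sum fun i hi => ?_
  rw [nsmul_eq_mul]
  exact Nat.le_mul_of_pos_left _ (List.count_pos_iff.2 (List.mem_toFinset.1 hi))

/-- index of a node stabiliser from a lower bound for its order -/
theorem stab_index_le {tb : List ℕ} {n i N I : ℕ}
    (hF : ∀ k < n, Sem φ t S0 H r (look tb k)) (fids : List ℕ)
    (hfid : ∀ fid ∈ fids, fid < n ∧ fT (look tb fid) = false ∧ fI (look tb fid) = i ∧
      fJ (look tb fid) = i)
    {ps : List (ℕ × ℕ)} {L : List (ℕ × List ℕ)}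
    (hlow : genLow (fids.map fun fid => fV (look tb fid)) ps L N = true)
    (hI : N * I = 244823040) (hN : 0 < N) (hcard : Nat.card M24 = 244823040) :
    (nodeStab φ H r i).index ≤ I := by
  have hle : N ≤ Nat.card (nodeStab φ H r i) := by
    have := genLow_card hlow (K := (nodeStab φ H r i).map M24.subtype) (by
      intro e he
      obtain ⟨fid, hfm, rfl⟩ := List.mem_map.1 he
      obtain ⟨h1, h2, h3, h4⟩ := hfid fid hfm
      obtain ⟨hU, hV, hUV, hv⟩ := hF fid h1
      rw [h2, if_neg Bool.false_ne_true, h3, h4, pv_eq hU] at hv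
      refine ⟨hV.1, ⟨⟨gv (fV (look tb fid)), gv_mem hV⟩⁻¹, ?_, by simp [gv]⟩⟩
      show REq H (r i * φ _) (r i)
      rw [map_inv, ← pv_eq hV, hUV, inv_inv, pv_eq hU]
      exact hv)
    rwa [Nat.card_congr (Subgroup.equivMapOfInjective _ _ M24.subtype_injective).toEquiv.symm] at this
  have h := Subgroup.card_mul_index (nodeStab φ H r i)
  rw [hcard, ← hI] at h
  by_contra hlt
  have : N * I < Nat.card (nodeStab φ H r i) * (nodeStab φ H r i).index :=
    calc N * I < N * (nodeStab φ H r i).index := Nat.mul_lt_mul_of_pos_left (not_le.1 hlt) hN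
      _ ≤ _ := Nat.mul_le_mul_right _ hle
  omega

end Sem

end Cfsg.Agent.H56.J4
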