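import Cfsg.Agent.H56.J4.Tbl

/-!
Checker for derivations in a double-coset enumeration `H \ G / φ(M24)` with one extra involution.

A coset is written as `r i * φ m` (a node and a table).  A fact says either `r i * u ~ r j` or
`r i * τ K ~ r j * u`, where `a ~ b` means `a * b⁻¹ ∈ H` and `τ K` is the conjugate of the
involution belonging to the trio `K`.
-/

set_option autoImplicit false

namespace Cfsg.Agent.H56.J4

open Cfsg Cfsg.Agent.Golay
open scoped Pointwise

/-- a relation: table, trios, and whether it holds in the group (or only modulo the subgroup) -/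
structure Rl where
  pi : ℕ
  ks : List ℕ
  glob : Bool

/-- the data of one derivation step -/
structure St where
  rel : ℕ
  c : ℕ
  ci : ℕ
  node : ℕ
  na : ℕ
  A : List ℕ
  B : List ℕ

/-- first node of a fact -/
def fI (v : ℕ) : ℕ := v &&& 255
/-- second node of a fact -/
def fJ (v : ℕ) : ℕ := (v >>> 8) &&& 255
/-- the fact is about an involution -/
def fT (v : ℕ) : Bool := Nat.beq ((v >>> 16) &&& 1) 1
/-- trio of a fact -/
def fK (v : ℕ) : ℕ := (v >>> 32) &&& 4722366482869645213695
/-- table of a fact -/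
def fU (v : ℕ) : ℕ := (v >>> 104) &&& 1329227995784915872903807060280344575
/-- inverse table of a fact -/
def fV (v : ℕ) : ℕ := v >>> 224

/-- block of a packed table -/
def blk : List ℕ → ℕ → ℕ
  | [], _ => 0
  | a :: l, k => bif Nat.beq k 0 then a else blk l (k - 1)

/-- lookup in a packed table: 64 entries per block, `w` bits each -/
noncomputable def lookW (w : ℕ) (tb : List ℕ) (k : ℕ) : ℕ :=
  frc k fun k => frc (blk tb (k / 64)) fun B => (B >>> (w * (k % 64))) &&& (2 ^ w - 1)

/-- entry of a table of facts -/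
noncomputable def look (tb : List ℕ) (k : ℕ) : ℕ := lookW 352 tb k

/-- entry of a table of trios -/
noncomputable def lookK (tb : List ℕ) (k : ℕ) : ℕ := lookW 72 tb k

/-- entry of a table of small numbers -/
noncomputable def lookI (tb : List ℕ) (k : ℕ) : ℕ := lookW 16 tb k

/-- follow moves -/
noncomputable def walk (tb : List ℕ) (cur : ℕ) :
    List ℕ → ℕ → ℕ → List ℕ → (ℕ → ℕ → Bool) → Bool
  | [], i, m, qs, k => qs.isEmpty && k i m
  | mv :: ms, i, m, qs, k =>
    Nat.blt (mv / 2) cur && frc (look tb (mv / 2)) fun v =>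
      bif fT v then
        (match qs with
        | [] => false
        | q :: qs' =>
          bif Nat.beq (mv % 2) 0 then
            Nat.beq i (fI v) && Nat.beq (imgK m (fK v)) q &&
              frc (mulR (fU v) m) fun m' => walk tb cur ms (fJ v) m' qs' k
          else
            Nat.beq i (fJ v) && frc (mulR (fV v) m) fun m' =>
              Nat.beq (imgK m' (fK v)) q && walk tb cur ms (fI v) m' qs' k)
      else
        bif Nat.beq (mv % 2) 0 then
          Nat.beq i (fI v) && frc (mulR (fV v) m) fun m' => walk tb cur ms (fJ v) m' qs k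
        else
          Nat.beq i (fJ v) && frc (mulR (fU v) m) fun m' => walk tb cur ms (fI v) m' qs k

/-- check one derived fact -/
noncomputable def stepOK (tb : List ℕ) (rls : List Rl) (cur : ℕ)
    (s : St) : Bool :=
  match rls[s.rel]? with
  | none => false
  | some r =>
    (r.glob || (Nat.beq s.c idN && Nat.beq s.node 0)) && inM24 s.c && invOK s.c s.ci &&
      frc s.c fun c => frc s.ci fun ci =>
        frc (look tb cur) fun v => invOK (fU v) (fV v) &&
          walk tb cur s.A s.node (mulR ci (mulR r.pi c)) ((r.ks.map (imgK c)).take s.na) fun a mA =>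
            Nat.beq a (fI v) &&
              bif fT v then
                (match (r.ks.map (imgK c)).drop s.na with
                | [] => false
                | q :: post =>
                  walk tb cur s.B s.node idN post.reverse fun b mB =>
                    Nat.beq b (fJ v) && Nat.beq (imgK mA (fK v)) q && Nat.beq (mulR (fU v) mA) mB)
              else
                walk tb cur s.B s.node idN ((r.ks.map (imgK c)).drop s.na).reverse fun b mB =>
                  Nat.beq b (fJ v) && Nat.beq (mulR (fU v) mB) mA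

/-- check consecutive steps -/
noncomputable def runChk (tb : List ℕ) (rls : List Rl) :
    ℕ → List St → Bool
  | _, [] => true
  | cur, s :: l => stepOK tb rls cur s && runChk tb rls (cur + 1) l

section Sem

variable {G : Type*} [Group G] (φ : M24 →* G) (t : G) (S0 : Finset (Finset GolayPt))

/-- the value of a table -/
noncomputable def pv (T : ℕ) : G :=
  open scoped Classical in if h : gv T ∈ M24 then φ ⟨gv T, h⟩ else 1

/-- the involution of a trio -/
noncomputable def tau (s : Finset (Finset GolayPt)) : G :=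
  open scoped Classical in
  if h : ∃ g : M24, (g : Equiv.Perm GolayPt) • S0 = s then φ h.choose * t * (φ h.choose)⁻¹ else 1

/-- the involution commutes with the stabiliser of the base trio -/
def Cen : Prop := t * t = 1 ∧ ∀ g : M24, (g : Equiv.Perm GolayPt) • S0 = S0 → φ g * t = t * φ g

variable {φ t S0}

theorem pv_eq {T : ℕ} (h : Val T) : pv φ T = φ ⟨gv T, gv_mem h⟩ := dif_pos (gv_mem h)

theorem pv_mulR {A B : ℕ} (hA : Val A) (hB : Val B) : pv φ (mulR A B) = pv φ A * pv φ B := by
  rw [pv_eq (hA.mul hB), pv_eq hA, pv_eq hB, ← map_mul]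
  congr 1
  exact Subtype.ext (gv_mulR hA.1 hB.1)

theorem pv_idN : pv φ idN = 1 := by
  rw [pv_eq val_idN, show (⟨gv idN, gv_mem val_idN⟩ : M24) = 1 from Subtype.ext gv_idN, map_one]

theorem pv_inv {A Ai : ℕ} (hA : Val A) (h : invOK A Ai = true) : pv φ Ai = (pv φ A)⁻¹ := by
  have hAi : Val Ai := (Val.of_invOK h (gv_mem hA)).2
  rw [pv_eq hA, pv_eq hAi, ← map_inv]
  congr 1
  exact Subtype.ext (invOK_spec h).2.2

theorem tau_base (hC : Cen φ t S0) (g : M24) :
    tau φ t S0 ((g : Equiv.Perm GolayPt) • S0) = φ g * t * (φ g)⁻¹ := by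
  have h : ∃ g' : M24, (g' : Equiv.Perm GolayPt) • S0 = (g : Equiv.Perm GolayPt) • S0 := ⟨g, rfl⟩
  rw [tau, dif_pos h]
  have hk : ((g⁻¹ * h.choose : M24) : Equiv.Perm GolayPt) • S0 = S0 := by
    rw [Subgroup.coe_mul, mul_smul, h.choose_spec, Subgroup.coe_inv, inv_smul_smul]
  have hc := hC.2 _ hk
  rw [map_mul, map_inv] at hc
  calc φ h.choose * t * (φ h.choose)⁻¹
      = φ g * ((φ g)⁻¹ * φ h.choose * t) * (φ h.choose)⁻¹ := by group
    _ = φ g * (t * ((φ g)⁻¹ * φ h.choose)) * (φ h.choose)⁻¹ := by rw [hc]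
    _ = φ g * t * (φ g)⁻¹ := by group

theorem tau_smul (hC : Cen φ t S0) (g : M24) (s : Finset (Finset GolayPt)) :
    tau φ t S0 ((g : Equiv.Perm GolayPt) • s) = φ g * tau φ t S0 s * (φ g)⁻¹ := by
  by_cases hs : ∃ g' : M24, (g' : Equiv.Perm GolayPt) • S0 = s
  · obtain ⟨g', rfl⟩ := hs
    rw [← mul_smul, ← Subgroup.coe_mul, tau_base hC, tau_base hC, map_mul]
    group
  · have hs' : ¬ ∃ g' : M24, (g' : Equiv.Perm GolayPt) • S0 = (g : Equiv.Perm GolayPt) • s := by
      rintro ⟨g', h⟩
      exact hs ⟨g⁻¹ * g', by rw [Subgroup.coe_mul, mul_smul, h, Subgroup.coe_inv, inv_smul_smul]⟩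
    rw [tau, dif_neg hs', tau, dif_neg hs]
    group

theorem tau_sq (hC : Cen φ t S0) (s : Finset (Finset GolayPt)) :
    tau φ t S0 s * tau φ t S0 s = 1 := by
  unfold tau
  split
  · next h =>
    calc _ = φ h.choose * (t * t) * (φ h.choose)⁻¹ := by group
      _ = 1 := by rw [hC.1]; group
  · rw [one_mul]

variable (φ t S0)

/-- the involution of a coded trio -/
noncomputable def tK (K : ℕ) : G := tau φ t S0 (kSet K)

/-- product of involutions -/
noncomputable def tP (qs : List ℕ) : G := (qs.map (tK φ t S0)).prod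

variable {φ t S0}

theorem tK_imgK (hC : Cen φ t S0) {m : ℕ} (hm : Val m) (K : ℕ) :
    tK φ t S0 (imgK m K) = (pv φ m)⁻¹ * tK φ t S0 K * pv φ m := by
  rw [tK, kSet_imgK' hm.1, pv_eq hm]
  have := tau_smul hC (⟨gv m, gv_mem hm⟩⁻¹ : M24) (kSet K)
  rw [map_inv, inv_inv] at this
  exact this

theorem tP_reverse (hC : Cen φ t S0) : ∀ qs : List ℕ, tP φ t S0 qs.reverse = (tP φ t S0 qs)⁻¹ := by
  intro qs
  induction qs with
  | nil => simp [tP]
  | cons q qs ih =>
    simp only [tP] at ih ⊢
    rw [List.reverse_cons, List.map_append, List.prod_append, ih]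
    simp only [List.map_cons, List.map_nil, List.prod_cons, List.prod_nil, mul_one, mul_inv_rev]
    have hq : tK φ t S0 q = (tK φ t S0 q)⁻¹ := eq_inv_of_mul_eq_one_left (tau_sq hC (kSet q))
    conv_lhs => rw [hq]

theorem tP_conj (hC : Cen φ t S0) {c : ℕ} (hc : Val c) : ∀ qs : List ℕ,
    tP φ t S0 (qs.map (imgK c)) = (pv φ c)⁻¹ * tP φ t S0 qs * pv φ c := by
  intro qs
  induction qs with
  | nil => simp [tP]
  | cons q qs ih =>
    simp only [tP] at ih ⊢
    simp only [List.map_cons, List.prod_cons]
    rw [ih, tK_imgK hC hc]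
    group

/-- equal right cosets -/
def REq (H : Subgroup G) (a b : G) : Prop := a * b⁻¹ ∈ H

theorem REq.refl (H : Subgroup G) (a : G) : REq H a a := by simp [REq]

theorem REq.symm {H : Subgroup G} {a b : G} (h : REq H a b) : REq H b a := by
  simpa [REq] using H.inv_mem h

theorem REq.trans {H : Subgroup G} {a b c : G} (h : REq H a b) (h' : REq H b c) : REq H a c := by
  simpa [REq, mul_assoc] using H.mul_mem h h'

theorem REq.mul {H : Subgroup G} {a b : G} (h : REq H a b) (c : G) : REq H (a * c) (b * c) := by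
  simpa [REq, mul_assoc] using h

variable (φ t S0) (H : Subgroup G) (r : ℕ → G)

/-- meaning of a fact -/
def Sem (v : ℕ) : Prop :=
  Val (fU v) ∧ Val (fV v) ∧ pv φ (fV v) = (pv φ (fU v))⁻¹ ∧
    if fT v then REq H (r (fI v) * tK φ t S0 (fK v)) (r (fJ v) * pv φ (fU v))
    else REq H (r (fI v) * pv φ (fU v)) (r (fJ v))

variable {φ t S0 H r}

theorem walk_sound (hC : Cen φ t S0) {tb : List ℕ} {cur : ℕ}
    (hF : ∀ k < cur, Sem φ t S0 H r (look tb k)) :
    ∀ (ms : List ℕ) (i m : ℕ) (qs : List ℕ) (k : ℕ → ℕ → Bool), Val m →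
      walk tb cur ms i m qs k = true →
      ∃ i' m', k i' m' = true ∧ Val m' ∧
        REq H (r i * pv φ m * tP φ t S0 qs) (r i' * pv φ m') := by
  intro ms
  induction ms with
  | nil =>
    intro i m qs k hm h
    simp only [walk, Bool.and_eq_true, List.isEmpty_iff] at h
    obtain ⟨rfl, h⟩ := h
    exact ⟨i, m, h, hm, by simp [tP, REq]⟩
  | cons mv ms ih =>
    intro i m qs k hm h
    rw [walk] at h
    simp only [Bool.and_eq_true, Nat.blt_eq, frc_eq] at h
    obtain ⟨hlt, h⟩ := h
    obtain ⟨hU, hV, hUV, hv⟩ := hF _ hlt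
    generalize look tb (mv / 2) = v at h hU hV hUV hv
    cases hT : fT v with
    | true =>
      simp only [hT, cond_true] at h
      rw [hT, if_pos rfl] at hv
      cases qs with
      | nil => simp at h
      | cons q qs' =>
        simp only at h
        cases hb : Nat.beq (mv % 2) 0 with
        | true =>
          simp only [hb, cond_true, Bool.and_eq_true, Nat.beq_eq, frc_eq] at h
          obtain ⟨⟨rfl, rfl⟩, h⟩ := h
          obtain ⟨i', m', hk, hm', he⟩ := ih _ _ _ _ (hU.mul hm) h
          refine ⟨i', m', hk, hm', REq.trans ?_ he⟩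
          simp only [tP, List.map_cons, List.prod_cons, tK_imgK hC hm, pv_mulR hU hm]
          convert hv.mul (pv φ m * tP φ t S0 qs') using 1 <;> simp only [tP] <;> group
        | false =>
          simp only [hb, cond_false, Bool.and_eq_true, Nat.beq_eq, frc_eq] at h
          obtain ⟨rfl, rfl, h⟩ := h
          obtain ⟨i', m', hk, hm', he⟩ := ih _ _ _ _ (hV.mul hm) h
          refine ⟨i', m', hk, hm', REq.trans ?_ he⟩
          simp only [tP, List.map_cons, List.prod_cons, tK_imgK hC (hV.mul hm), pv_mulR hV hm, hUV]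
          have hs : tK φ t S0 (fK v) * tK φ t S0 (fK v) = 1 := tau_sq hC _
          have := (hv.symm).mul ((pv φ (fU v))⁻¹ * pv φ m *
            (((pv φ (fU v))⁻¹ * pv φ m)⁻¹ * tK φ t S0 (fK v) *
              ((pv φ (fU v))⁻¹ * pv φ m) * tP φ t S0 qs'))
          convert this using 1
          · simp only [tP]; group
          · calc r (fI v) * ((pv φ (fU v))⁻¹ * pv φ m) * (List.map (tK φ t S0) qs').prod
                = r (fI v) * (tK φ t S0 (fK v) * tK φ t S0 (fK v)) *
                    ((pv φ (fU v))⁻¹ * pv φ m) * (List.map (tK φ t S0) qs').prod := by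
                  rw [hs, mul_one]
              _ = _ := by simp only [tP]; group
    | false =>
      simp only [hT, cond_false] at h
      rw [hT, if_neg Bool.false_ne_true] at hv
      cases hb : Nat.beq (mv % 2) 0 with
      | true =>
        simp only [hb, cond_true, Bool.and_eq_true, Nat.beq_eq, frc_eq] at h
        obtain ⟨rfl, h⟩ := h
        obtain ⟨i', m', hk, hm', he⟩ := ih _ _ _ _ (hV.mul hm) h
        refine ⟨i', m', hk, hm', REq.trans ?_ he⟩
        rw [pv_mulR hV hm, hUV]
        convert hv.mul ((pv φ (fU v))⁻¹ * pv φ m * tP φ t S0 qs) using 1 <;> group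
      | false =>
        simp only [hb, cond_false, Bool.and_eq_true, Nat.beq_eq, frc_eq] at h
        obtain ⟨rfl, h⟩ := h
        obtain ⟨i', m', hk, hm', he⟩ := ih _ _ _ _ (hU.mul hm) h
        refine ⟨i', m', hk, hm', REq.trans ?_ he⟩
        rw [pv_mulR hU hm]
        convert hv.symm.mul (pv φ m * tP φ t S0 qs) using 1 <;> group

/-- the relations hold -/
def RelsOK (φ : M24 →* G) (t : G) (S0 : Finset (Finset GolayPt)) (H : Subgroup G)
    (rls : List Rl) : Prop :=
  ∀ q ∈ rls, Val q.pi ∧
    if q.glob then pv φ q.pi * tP φ t S0 q.ks = 1 else pv φ q.pi * tP φ t S0 q.ks ∈ H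

theorem stepOK_sound (hC : Cen φ t S0) (hr0 : r 0 = 1) {tb : List ℕ} {rls : List Rl}
    (hR : RelsOK φ t S0 H rls) {cur : ℕ}
    (hF : ∀ k < cur, Sem φ t S0 H r (look tb k)) {s : St}
    (h : stepOK tb rls cur s = true) : Sem φ t S0 H r (look tb cur) := by
  unfold stepOK at h
  cases hq : rls[s.rel]? with
  | none => simp [hq] at h
  | some q =>
  simp only [hq, Bool.and_eq_true, frc_eq] at h
  obtain ⟨⟨⟨hgl, hcM⟩, hcI⟩, hinv, h⟩ := h
  obtain ⟨hpi, hrel⟩ := hR q (List.mem_of_getElem? hq)
  have hc : Val s.c := ⟨validT_of_inM24 hcM, mem_M24_of_inM24 hcM⟩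
  have hci : Val s.ci := (Val.of_invOK hcI (gv_mem hc)).2
  have hcc : pv φ s.ci = (pv φ s.c)⁻¹ := pv_inv hc hcI
  have hW : REq H (r s.node * pv φ (mulR (s.ci) (mulR q.pi (s.c))) *
      tP φ t S0 (q.ks.map (imgK (s.c)))) (r s.node) := by
    rw [pv_mulR hci (hpi.mul hc), pv_mulR hpi hc, hcc, tP_conj hC hc]
    cases hg' : q.glob with
    | true =>
      rw [hg', if_pos rfl] at hrel
      convert REq.refl H (r s.node) using 1
      calc _ = r s.node * ((pv φ (s.c))⁻¹ * (pv φ q.pi * tP φ t S0 q.ks) *
            pv φ (s.c)) := by group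
        _ = _ := by rw [hrel]; group
    | false =>
      rw [hg', if_neg Bool.false_ne_true] at hrel
      simp only [hg', Bool.false_or, Bool.and_eq_true, Nat.beq_eq] at hgl
      rw [hgl.1, hgl.2, hr0]
      simpa [REq, pv_idN] using hrel
  generalize hks : q.ks.map (imgK (s.c)) = ks at h hW
  have hsplit : tP φ t S0 ks = tP φ t S0 (ks.take s.na) * tP φ t S0 (ks.drop s.na) := by
    simp only [tP]; rw [← List.prod_append, ← List.map_append, List.take_append_drop]
  obtain ⟨a, mA, h, hmA, hA⟩ := walk_sound hC hF _ _ _ _ _ (hci.mul (hpi.mul hc)) h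
  simp only [Bool.and_eq_true, Nat.beq_eq] at h
  obtain ⟨rfl, h⟩ := h
  rw [hsplit] at hW
  generalize look tb cur = v at h hinv hA ⊢
  cases hT : fT v with
  | true =>
    simp only [hT, cond_true] at h
    cases hd : ks.drop s.na with
    | nil => simp [hd] at h
    | cons p post =>
      simp only [hd] at h
      obtain ⟨b, mB, h, hmB, hB⟩ := walk_sound hC hF _ _ _ _ _ val_idN h
      simp only [Bool.and_eq_true, Nat.beq_eq] at h
      obtain ⟨⟨rfl, hp⟩, hm⟩ := h
      have hgu : gv (fU v) ∈ M24 := by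
        have := gv_mulR (invOK_spec hinv).1 hmA.1
        rw [hm] at this
        rw [eq_mul_inv_of_mul_eq this.symm]
        exact mul_mem (gv_mem hmB) (inv_mem (gv_mem hmA))
      obtain ⟨hU, hV⟩ := Val.of_invOK hinv hgu
      refine ⟨hU, hV, pv_inv hU hinv, ?_⟩
      rw [if_pos hT]
      rw [hd] at hW
      rw [pv_idN, mul_one, tP_reverse hC] at hB
      have e1 := (hA.mul (tP φ t S0 (p :: post))).symm.trans
        (by simpa [mul_assoc] using hW)
      have e2 := (e1.mul (tP φ t S0 post)⁻¹).trans hB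
      rw [← hm, pv_mulR hU hmA] at e2
      have e3 := e2.mul (pv φ mA)⁻¹
      rw [show tP φ t S0 (p :: post) = tK φ t S0 p * tP φ t S0 post by simp [tP], ← hp,
        tK_imgK hC hmA] at e3
      convert e3 using 1 <;> group
  | false =>
    simp only [hT, cond_false] at h
    obtain ⟨b, mB, h, hmB, hB⟩ := walk_sound hC hF _ _ _ _ _ val_idN h
    simp only [Bool.and_eq_true, Nat.beq_eq] at h
    obtain ⟨rfl, hm⟩ := h
    have hgu : gv (fU v) ∈ M24 := by
      have := gv_mulR (invOK_spec hinv).1 hmB.1
      rw [hm] at this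
      rw [eq_mul_inv_of_mul_eq this.symm]
      exact mul_mem (gv_mem hmA) (inv_mem (gv_mem hmB))
    obtain ⟨hU, hV⟩ := Val.of_invOK hinv hgu
    refine ⟨hU, hV, pv_inv hU hinv, ?_⟩
    rw [if_neg (by simp [hT])]
    rw [pv_idN, mul_one, tP_reverse hC] at hB
    have e1 := (hA.mul (tP φ t S0 (ks.drop s.na))).symm.trans (by simpa [mul_assoc] using hW)
    have e2 := (e1.mul (tP φ t S0 (ks.drop s.na))⁻¹).trans hB
    rw [← hm, pv_mulR hU hmB] at e2
    convert e2.mul (pv φ mB)⁻¹ using 1 <;> group

theorem runChk_sound (hC : Cen φ t S0) (hr0 : r 0 = 1) {tb : List ℕ} {rls : List Rl}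
    (hR : RelsOK φ t S0 H rls) :
    ∀ (l : List St) (cur : ℕ), (∀ k < cur, Sem φ t S0 H r (look tb k)) →
      runChk tb rls cur l = true →
      ∀ k < cur + l.length, Sem φ t S0 H r (look tb k) := by
  intro l
  induction l with
  | nil => intro cur hF _ k hk; exact hF k (by simpa using hk)
  | cons s l ih =>
    intro cur hF h k hk
    simp only [runChk, Bool.and_eq_true] at h
    refine ih (cur + 1) (fun j hj => ?_) h.2 k (by rw [List.length_cons] at hk; omega)
    rcases Nat.lt_succ_iff_lt_or_eq.1 hj with hj | rfl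
    · exact hF j hj
    · exact stepOK_sound hC hr0 hR hF h.1

end Sem

end Cfsg.Agent.H56.J4
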