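import Cfsg.Agent.H56.J4.Trio
import Cfsg.Agent.H45.J4Main
import Cfsg.Prelude.Def_Spor_J4

/-!
The presented group `Spor.J4` as an instance of the double coset engine.
-/

set_option autoImplicit false
set_option maxRecDepth 100000

namespace Cfsg.Agent.H56.J4

open Cfsg Cfsg.Agent.Golay Up
open scoped Pointwise

/-- the presented group -/
abbrev J : Type := Cfsg.Spor.J4

/-- the generator `x` -/
noncomputable def jx : J := PresentedGroup.of Cfsg.Spor.J4.Gen.x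
/-- the generator `y` -/
noncomputable def jy : J := PresentedGroup.of Cfsg.Spor.J4.Gen.y
/-- the generator `t` -/
noncomputable def jt : J := PresentedGroup.of Cfsg.Spor.J4.Gen.t

/-- the embedding of `M24` -/
noncomputable def phi : M24 →* J := Cfsg.Agent.H45.J4Main.exists_embedding.choose

theorem phi_injective : Function.Injective phi :=
  Cfsg.Agent.H45.J4Main.exists_embedding.choose_spec.1

theorem gv_xT : gv xT = Cfsg.Agent.H45.J4Main.xPerm := by
  rw [gv, inv_eq_iff_eq_inv]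
  exact (validT_of_pointwise (T := xT) Cfsg.Agent.H45.J4Main.xPerm.symm (by decide +kernel)).2

theorem gv_yT : gv yT = Cfsg.Agent.H45.J4Main.yPerm := by
  rw [gv, inv_eq_iff_eq_inv]
  exact (validT_of_pointwise (T := yT) Cfsg.Agent.H45.J4Main.yPerm.symm (by decide +kernel)).2

theorem phi_gX : phi gX = jx := by
  rw [show gX = ⟨Cfsg.Agent.H45.J4Main.xPerm, Cfsg.Agent.H45.J4Main.xPerm_mem⟩ from
    Subtype.ext gv_xT]
  exact Cfsg.Agent.H45.J4Main.exists_embedding.choose_spec.2.1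

theorem phi_gY : phi gY = jy := by
  rw [show gY = ⟨Cfsg.Agent.H45.J4Main.yPerm, Cfsg.Agent.H45.J4Main.yPerm_mem⟩ from
    Subtype.ext gv_yT]
  exact Cfsg.Agent.H45.J4Main.exists_embedding.choose_spec.2.2.1

theorem phi_range : phi.range = Subgroup.closure {jx, jy} :=
  Cfsg.Agent.H45.J4Main.exists_embedding.choose_spec.2.2.2

theorem gen_top : Subgroup.closure (Set.range phi ∪ {jt}) = ⊤ := by
  rw [eq_top_iff, ← PresentedGroup.closure_range_of, Subgroup.closure_le]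
  rintro _ ⟨g, rfl⟩
  cases g
  · exact Subgroup.subset_closure (Or.inl ⟨gX, phi_gX⟩)
  · exact Subgroup.subset_closure (Or.inl ⟨gY, phi_gY⟩)
  · exact Subgroup.subset_closure (Or.inr rfl)

/-- a relator of the presentation holds -/
theorem extra_rel {r : FreeGroup Cfsg.Spor.J4.Gen} (hr : r ∈ Cfsg.Spor.J4.extra) :
    PresentedGroup.mk (Cfsg.Spor.coxRelators Cfsg.Spor.J4.edges ∪
      {r | r ∈ Cfsg.Spor.J4.extra}) r = 1 :=
  PresentedGroup.one_of_mem (Or.inr hr)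

theorem jt_sq : jt * jt = 1 := by
  have h := extra_rel (r := Cfsg.Spor.J4.t ^ 2) (by simp [Cfsg.Spor.J4.extra])
  rwa [pow_two, map_mul] at h

theorem jt_inv : jt⁻¹ = jt := (eq_inv_of_mul_eq_one_left jt_sq).symm

theorem jt_comm_x : jx * jt = jt * jx := by
  have h := extra_rel (r := Cfsg.Spor.J4.t⁻¹ * Cfsg.Spor.J4.x⁻¹ * Cfsg.Spor.J4.t * Cfsg.Spor.J4.x)
    (by simp [Cfsg.Spor.J4.extra])
  simp only [map_mul, map_inv] at h
  change jt⁻¹ * jx⁻¹ * jt * jx = 1 at h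
  calc jx * jt = jx * jt * 1 := (mul_one _).symm
    _ = jx * jt * (jt⁻¹ * jx⁻¹ * jt * jx) := by rw [h]
    _ = jt * jx := by group

theorem jt_comm_w : phi gW * jt = jt * phi gW := by
  have h := extra_rel (r := Cfsg.Spor.J4.t⁻¹ *
      (Cfsg.Spor.J4.y * Cfsg.Spor.J4.x * Cfsg.Spor.J4.y * ((Cfsg.Spor.J4.x * (Cfsg.Spor.J4.y⁻¹)) ^ 2) *
        ((Cfsg.Spor.J4.x * Cfsg.Spor.J4.y) ^ 3))⁻¹ * Cfsg.Spor.J4.t *
      (Cfsg.Spor.J4.y * Cfsg.Spor.J4.x * Cfsg.Spor.J4.y * ((Cfsg.Spor.J4.x * (Cfsg.Spor.J4.y⁻¹)) ^ 2) *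
        ((Cfsg.Spor.J4.x * Cfsg.Spor.J4.y) ^ 3))) (by simp [Cfsg.Spor.J4.extra])
  simp only [map_mul, map_inv, map_pow] at h
  have hw : phi gW = jy * jx * jy * (jx * jy⁻¹) ^ 2 * (jx * jy) ^ 3 := by
    rw [gW_word]; simp only [map_mul, map_pow, map_inv, phi_gX, phi_gY]
  change jt⁻¹ * (jy * jx * jy * (jx * jy⁻¹) ^ 2 * (jx * jy) ^ 3)⁻¹ * jt *
    (jy * jx * jy * (jx * jy⁻¹) ^ 2 * (jx * jy) ^ 3) = 1 at h
  rw [← hw] at h
  calc phi gW * jt = phi gW * jt * 1 := (mul_one _).symm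
    _ = phi gW * jt * (jt⁻¹ * (phi gW)⁻¹ * jt * phi gW) := by rw [h]
    _ = jt * phi gW := by group

theorem cen : Cen phi jt S0 :=
  cen_of_comm phi jt jt_sq (phi_gX ▸ jt_comm_x) jt_comm_w

/-- table of a word: 0 for `x`, 1 for `y`, 2 for the inverse of `y` -/
noncomputable def wt : List ℕ → ℕ
  | [] => idN
  | l :: w => mulR (bif Nat.beq l 0 then xT else bif Nat.beq l 1 then yT else yTi) (wt w)

/-- value of a letter -/
noncomputable def jl (l : ℕ) : J :=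
  bif Nat.beq l 0 then jx else bif Nat.beq l 1 then jy else jy⁻¹

theorem jl_zero : jl 0 = jx := rfl
theorem jl_one : jl 1 = jy := rfl
theorem jl_two : jl 2 = jy⁻¹ := rfl

theorem wt_spec : ∀ w, Val (wt w) ∧ pv phi (wt w) = (w.map jl).prod := by
  have hyi : Val yTi := (Val.of_invOK inv_yT (gv_mem val_yT)).2
  intro w
  induction w with
  | nil => exact ⟨val_idN, by simp [wt, pv_idN]⟩
  | cons l w ih =>
    have hl : Val (bif Nat.beq l 0 then xT else bif Nat.beq l 1 then yT else yTi) ∧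
        pv phi (bif Nat.beq l 0 then xT else bif Nat.beq l 1 then yT else yTi) = jl l := by
      unfold jl
      cases Nat.beq l 0
      · cases Nat.beq l 1
        · refine ⟨hyi, ?_⟩
          show pv phi yTi = jy⁻¹
          rw [pv_inv val_yT inv_yT, pv_eq val_yT, ← phi_gY]
          rfl
        · refine ⟨val_yT, ?_⟩
          show pv phi yT = jy
          rw [pv_eq val_yT, ← phi_gY]
          rfl
      · refine ⟨val_xT, ?_⟩
        show pv phi xT = jx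
        rw [pv_eq val_xT, ← phi_gX]
        rfl
    refine ⟨hl.1.mul ih.1, ?_⟩
    rw [wt, pv_mulR hl.1 ih.1, hl.2, ih.2, List.map_cons, List.prod_cons]

/-- inverse word -/
def winv3 (w : List ℕ) : List ℕ :=
  (w.map fun l => if l = 0 then 0 else if l = 1 then 2 else 1).reverse

/-- the conjugate of `t` belonging to a trio reached by a word -/
theorem tK_word {K : ℕ} {w : List ℕ} (h : imgK (wt w) k0 = K) :
    tK phi jt S0 K = ((w.map jl).prod)⁻¹ * jt * (w.map jl).prod := by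
  obtain ⟨hv, he⟩ := wt_spec w
  rw [← h, tK_imgK cen hv, he]
  congr 2
  have := tau_base cen (1 : M24)
  rwa [Subgroup.coe_one, one_smul, map_one, one_mul, inv_one, mul_one] at this

theorem pi_word {p : ℕ} {w : List ℕ} (h : wt w = p) : Val p ∧ pv phi p = (w.map jl).prod :=
  h ▸ wt_spec w

/-- `v` of the first long relator -/
def vW : List ℕ := [1, 0, 2, 0, 1, 0, 2, 0]
/-- `v` of the subgroup word -/
def vH : List ℕ := [1, 0, 1, 0, 1, 0, 1, 0, 2, 0]
/-- `s` of the second long relator -/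
def sW : List ℕ := [1, 0, 1, 0, 1, 0, 1, 1, 0, 1, 0, 1, 0, 1, 1, 0, 1, 0, 1, 0, 1]
/-- `u` of the second long relator -/
def uW : List ℕ := [0, 1, 0, 1, 0, 1, 1, 0, 1, 0, 1, 0, 1, 0, 1, 0, 1, 0, 1, 1]

/-- `(y t^v)^3` as a table and three trios -/
theorem cube_rel (v : List ℕ) {p k1 k2 k3 : ℕ}
    (h0 : wt ([1] ++ winv3 v ++ v ++ [1] ++ winv3 v ++ v ++ [1] ++ winv3 v ++ v) = p)
    (h1 : imgK (wt (v ++ [1] ++ winv3 v ++ v ++ [1] ++ winv3 v ++ v)) k0 = k1)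
    (h2 : imgK (wt (v ++ [1] ++ winv3 v ++ v)) k0 = k2) (h3 : imgK (wt v) k0 = k3)
    (hv : ((winv3 v).map jl).prod = ((v.map jl).prod)⁻¹) :
    Val p ∧ pv phi p * tP phi jt S0 [k1, k2, k3] =
      (jy * (((v.map jl).prod)⁻¹ * jt * (v.map jl).prod)) ^ 3 := by
  obtain ⟨hp, hp'⟩ := pi_word h0
  refine ⟨hp, ?_⟩
  rw [hp']
  simp only [tP, List.map_cons, List.map_nil, List.prod_cons, List.prod_nil, tK_word h1, tK_word h2,
    tK_word h3, List.map_append, List.prod_append, hv]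
  simp only [jl_one, pow_three]
  group

theorem winv3_prod : ∀ w : List ℕ, (∀ l ∈ w, l < 3) →
    ((winv3 w).map jl).prod = ((w.map jl).prod)⁻¹ := by
  intro w
  induction w with
  | nil => simp [winv3]
  | cons l w ih =>
    intro h
    have hx : jx⁻¹ = jx := by
      have h2 := extra_rel (r := Cfsg.Spor.J4.x ^ 2) (by simp [Cfsg.Spor.J4.extra])
      rw [pow_two, map_mul] at h2
      exact (eq_inv_of_mul_eq_one_left h2).symm
    have e : winv3 (l :: w) = winv3 w ++ [if l = 0 then 0 else if l = 1 then 2 else 1] := by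
      simp [winv3]
    rw [e, List.map_append, List.prod_append, ih (fun a ha => h a (List.mem_cons_of_mem _ ha))]
    have hl := h l (by simp)
    simp only [List.map_cons, List.map_nil, List.prod_cons, List.prod_nil, mul_one, mul_inv_rev]
    congr 1
    interval_cases l <;> simp [jl_zero, jl_one, jl_two, hx]

theorem r1_val : (jy * (((vW.map jl).prod)⁻¹ * jt * (vW.map jl).prod)) ^ 3 = 1 := by
  have h := extra_rel (r := (Cfsg.Spor.J4.y * ((Cfsg.Spor.J4.y * Cfsg.Spor.J4.x * (Cfsg.Spor.J4.y⁻¹) *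
      Cfsg.Spor.J4.x * Cfsg.Spor.J4.y * Cfsg.Spor.J4.x * (Cfsg.Spor.J4.y⁻¹) * Cfsg.Spor.J4.x)⁻¹ *
      Cfsg.Spor.J4.t * (Cfsg.Spor.J4.y * Cfsg.Spor.J4.x * (Cfsg.Spor.J4.y⁻¹) *
      Cfsg.Spor.J4.x * Cfsg.Spor.J4.y * Cfsg.Spor.J4.x * (Cfsg.Spor.J4.y⁻¹) * Cfsg.Spor.J4.x))) ^ 3)
    (by simp [Cfsg.Spor.J4.extra])
  simp only [map_mul, map_inv, map_pow] at h
  have e : (vW.map jl).prod = jy * jx * jy⁻¹ * jx * jy * jx * jy⁻¹ * jx := by
    simp [vW, jl_zero, jl_one, jl_two, mul_assoc]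
  rw [e]
  exact h

theorem r2_val : ((sW.map jl).prod * jt * (((uW.map jl).prod)⁻¹ * jt * (uW.map jl).prod)) ^ 2 = 1 := by
  have h := extra_rel (r := (((Cfsg.Spor.J4.y * Cfsg.Spor.J4.x * Cfsg.Spor.J4.y * Cfsg.Spor.J4.x *
      Cfsg.Spor.J4.y * Cfsg.Spor.J4.x * Cfsg.Spor.J4.y) ^ 3) * Cfsg.Spor.J4.t *
      ((((Cfsg.Spor.J4.x * Cfsg.Spor.J4.y) ^ 3) * Cfsg.Spor.J4.y *
        ((Cfsg.Spor.J4.x * Cfsg.Spor.J4.y) ^ 6) * Cfsg.Spor.J4.y)⁻¹ * Cfsg.Spor.J4.t *
      (((Cfsg.Spor.J4.x * Cfsg.Spor.J4.y) ^ 3) * Cfsg.Spor.J4.y *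
        ((Cfsg.Spor.J4.x * Cfsg.Spor.J4.y) ^ 6) * Cfsg.Spor.J4.y))) ^ 2)
    (by simp [Cfsg.Spor.J4.extra])
  simp only [map_mul, map_inv, map_pow] at h
  have e1 : (sW.map jl).prod = (jy * jx * jy * jx * jy * jx * jy) ^ 3 := by
    simp [sW, jl_zero, jl_one, pow_succ, mul_assoc]
  have e2 : (uW.map jl).prod = (jx * jy) ^ 3 * jy * (jx * jy) ^ 6 * jy := by
    simp [uW, jl_zero, jl_one, pow_succ, mul_assoc]
  rw [e1, e2]
  exact h

end Cfsg.Agent.H56.J4
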