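import Cfsg.Agent.Golay.Table
import Cfsg.Agent.H45.CosetCheck

/-!
Kernel-friendly operations on tables of the 24 points in right-action convention.
-/

set_option autoImplicit false

namespace Cfsg.Agent.H56.J4

open Cfsg Cfsg.Agent.Golay
open scoped Pointwise

/-- forcing a number -/
noncomputable abbrev frc {α : Type} (x : ℕ) (f : ℕ → α) : α := Cfsg.Agent.H45.force x f

theorem frc_eq {α : Type} (x : ℕ) (f : ℕ → α) : frc x f = f x := Cfsg.Agent.H45.force_eq x f

/-- tail of a composite table: entries below the given position are added -/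
def mulGo (A B : ℕ) : ℕ → ℕ → ℕ
  | 0, acc => acc
  | k + 1, acc => mulGo A B k ((acc <<< 5) ||| app B (app A k))

/-- the composite table, unrolled -/
def mul24 (a b : ℕ) : ℕ :=
  ((((((((((((((((((((((((((((((((((((((((((((((((0 <<< 5) ||| app b (app a 23)) <<< 5) ||| app b (app a 22)) <<< 5) ||| app b (app a 21)) <<< 5) ||| app b (app a 20)) <<< 5) ||| app b (app a 19)) <<< 5) ||| app b (app a 18)) <<< 5) ||| app b (app a 17)) <<< 5) ||| app b (app a 16)) <<< 5) ||| app b (app a 15)) <<< 5) ||| app b (app a 14)) <<< 5) ||| app b (app a 13)) <<< 5) ||| app b (app a 12)) <<< 5) ||| app b (app a 11)) <<< 5) ||| app b (app a 10)) <<< 5) ||| app b (app a 9)) <<< 5) ||| app b (app a 8)) <<< 5) ||| app b (app a 7)) <<< 5) ||| app b (app a 6)) <<< 5) ||| app b (app a 5)) <<< 5) ||| app b (app a 4)) <<< 5) ||| app b (app a 3)) <<< 5) ||| app b (app a 2)) <<< 5) ||| app b (app a 1)) <<< 5) ||| app b (app a 0))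

theorem mul24_eq (a b : ℕ) : mul24 a b = mulGo a b 24 0 := rfl

/-- apply `A`, then `B` -/
noncomputable def mulR (A B : ℕ) : ℕ := frc A fun a => frc B fun b => mul24 a b

theorem app_lt (T i : ℕ) : app T i < 32 := by
  rw [app_eq]; exact Nat.mod_lt _ (by norm_num)

theorem testBit_or_shift (acc x j : ℕ) :
    ((acc <<< 5) ||| x).testBit (5 + j) = (acc.testBit j || x.testBit (5 + j)) := by
  simp [Nat.testBit_or, Nat.testBit_shiftLeft]

theorem app_cons (acc x i : ℕ) (hx : x < 32) :
    app ((acc <<< 5) ||| x) i = if i = 0 then x else app acc (i - 1) := by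
  have h : (acc <<< 5) ||| x = x + 32 * acc := by
    rw [Nat.shiftLeft_eq, mul_comm, ← Nat.two_pow_add_eq_or_of_lt (i := 5) (by simpa using hx) acc]
    ring
  rw [h, app_eq]
  cases i with
  | zero => simp [Nat.mod_eq_of_lt hx]
  | succ i =>
    rw [if_neg (Nat.succ_ne_zero i), app_eq, pow_succ', ← Nat.div_div_eq_div_mul,
      Nat.add_mul_div_left _ _ (by norm_num), Nat.div_eq_of_lt hx, zero_add]
    simp

theorem app_mulGo (A B : ℕ) : ∀ k acc i,
    app (mulGo A B k acc) i = if i < k then app B (app A i) else app acc (i - k) := by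
  intro k
  induction k with
  | zero => intro acc i; simp [mulGo]
  | succ k ih =>
    intro acc i
    rw [mulGo, ih]
    rcases lt_trichotomy i k with h | h | h
    · rw [if_pos h, if_pos (by omega)]
    · subst h
      rw [if_neg (lt_irrefl i), if_pos (Nat.lt_succ_self i), Nat.sub_self,
        app_cons _ _ _ (app_lt B _), if_pos rfl]
    · rw [if_neg (by omega), if_neg (by omega), app_cons _ _ _ (app_lt B _),
        if_neg (by omega), Nat.sub_sub]

/-- the group element of a table: a homomorphism from the right-action convention -/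
noncomputable def gv (T : ℕ) : Equiv.Perm GolayPt := (mkPerm T)⁻¹

/-- a table of an element of `M24` -/
def Val (T : ℕ) : Prop := validT T = true ∧ mkPerm T ∈ M24

theorem mulR_spec {A B : ℕ} (hA : validT A = true) (hB : validT B = true) :
    validT (mulR A B) = true ∧ mkPerm (mulR A B) = mkPerm B * mkPerm A := by
  refine validT_of_pointwise _ fun i hi => ?_
  rw [mulR, frc_eq, frc_eq, mul24_eq, app_mulGo, if_pos hi, Equiv.Perm.mul_apply, idx_mkPerm hB,
    idx_mkPerm hA, idx_pt i hi]

theorem Val.mul {A B : ℕ} (hA : Val A) (hB : Val B) : Val (mulR A B) := by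
  obtain ⟨h1, h2⟩ := mulR_spec hA.1 hB.1
  exact ⟨h1, h2 ▸ mul_mem hB.2 hA.2⟩

theorem gv_mulR {A B : ℕ} (hA : validT A = true) (hB : validT B = true) :
    gv (mulR A B) = gv A * gv B := by
  rw [gv, (mulR_spec hA hB).2, mul_inv_rev]; rfl

/-- the table of the identity -/
def idN : ℕ := 984818244535754528103549039458486304

theorem idN_spec : validT idN = true ∧ mkPerm idN = 1 := by
  refine validT_of_pointwise _ ?_
  intro i hi
  rw [Equiv.Perm.one_apply, idx_pt i hi]
  revert i; decide +kernel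

theorem val_idN : Val idN := ⟨idN_spec.1, idN_spec.2 ▸ one_mem _⟩

theorem gv_idN : gv idN = 1 := by rw [gv, idN_spec.2, inv_one]

theorem gv_mem {T : ℕ} (h : Val T) : gv T ∈ M24 := inv_mem h.2

/-- `Ai` is the inverse table of `A` -/
noncomputable def invOK (A Ai : ℕ) : Bool :=
  validT A && validT Ai && Nat.beq (mulR A Ai) idN

theorem invOK_spec {A Ai : ℕ} (h : invOK A Ai = true) :
    validT A = true ∧ validT Ai = true ∧ gv Ai = (gv A)⁻¹ := by
  simp only [invOK, Bool.and_eq_true, Nat.beq_eq] at h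
  obtain ⟨⟨h1, h2⟩, h3⟩ := h
  refine ⟨h1, h2, ?_⟩
  have := gv_mulR h1 h2
  rw [h3, gv_idN] at this
  exact eq_inv_of_mul_eq_one_right this.symm

theorem Val.of_invOK {A Ai : ℕ} (h : invOK A Ai = true) (hA : gv A ∈ M24) : Val A ∧ Val Ai := by
  obtain ⟨h1, h2, h3⟩ := invOK_spec h
  refine ⟨⟨h1, ?_⟩, h2, ?_⟩
  · simpa [gv] using inv_mem hA
  · have : gv Ai ∈ M24 := h3 ▸ inv_mem hA
    simpa [gv] using inv_mem this

/-- one bit in each of the three blocks -/
def selK : ℕ := 281474993487873

/-- images of the three blocks in one pass -/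
def imgGo (t K : ℕ) : ℕ → ℕ → ℕ
  | 0, acc => acc
  | k + 1, acc => imgGo t K k (acc ||| (((K >>> k) &&& selK) <<< app t k))

/-- images of the three blocks, unrolled -/
def img24 (t K : ℕ) : ℕ :=
  ((((((((((((((((((((((((0 ||| (((K >>> 23) &&& selK) <<< app t 23)) ||| (((K >>> 22) &&& selK) <<< app t 22)) ||| (((K >>> 21) &&& selK) <<< app t 21)) ||| (((K >>> 20) &&& selK) <<< app t 20)) ||| (((K >>> 19) &&& selK) <<< app t 19)) ||| (((K >>> 18) &&& selK) <<< app t 18)) ||| (((K >>> 17) &&& selK) <<< app t 17)) ||| (((K >>> 16) &&& selK) <<< app t 16)) ||| (((K >>> 15) &&& selK) <<< app t 15)) ||| (((K >>> 14) &&& selK) <<< app t 14)) ||| (((K >>> 13) &&& selK) <<< app t 13)) ||| (((K >>> 12) &&& selK) <<< app t 12)) ||| (((K >>> 11) &&& selK) <<< app t 11)) ||| (((K >>> 10) &&& selK) <<< app t 10)) ||| (((K >>> 9) &&& selK) <<< app t 9)) ||| (((K >>> 8) &&& selK) <<< app t 8)) ||| (((K >>> 7) &&& selK) <<< app t 7)) ||| (((K >>> 6) &&& selK) <<< app t 6)) ||| (((K >>> 5) &&& selK) <<<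 app t 5)) ||| (((K >>> 4) &&& selK) <<< app t 4)) ||| (((K >>> 3) &&& selK) <<< app t 3)) ||| (((K >>> 2) &&& selK) <<< app t 2)) ||| (((K >>> 1) &&& selK) <<< app t 1)) ||| (((K >>> 0) &&& selK) <<< app t 0))

theorem img24_eq (t K : ℕ) : img24 t K = imgGo t K 24 0 := rfl

theorem selK_bit (i : ℕ) : selK.testBit i = decide (i = 0 ∨ i = 24 ∨ i = 48) := by
  rcases Nat.lt_or_ge i 49 with h | h
  · revert i; decide +kernel
  · rw [Nat.testBit_eq_false_of_lt (lt_of_lt_of_le (by norm_num [selK] : selK < 2 ^ 49)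
      (Nat.pow_le_pow_right two_pos h))]
    simp only [eq_comm (a := false), decide_eq_false_iff_not]; omega

theorem imgGo_testBit (t K : ℕ) (ht : ∀ i < 24, app t i < 24) : ∀ k ≤ 24, ∀ acc n,
    (imgGo t K k acc).testBit n = true ↔ acc.testBit n = true ∨
      ∃ i < k, app t i ≤ n ∧ (n - app t i = 0 ∨ n - app t i = 24 ∨ n - app t i = 48) ∧
        K.testBit (i + (n - app t i)) = true := by
  intro k
  induction k with
  | zero => intros; simp [imgGo]
  | succ k ih =>
    intro hk acc n
    rw [imgGo, ih (by omega)]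
    simp only [Nat.testBit_or, Nat.testBit_shiftLeft, Nat.testBit_and, Nat.testBit_shiftRight,
      selK_bit, Bool.or_eq_true, Bool.and_eq_true, decide_eq_true_eq, Nat.exists_lt_succ_right,
      ge_iff_le]
    constructor
    · rintro ((h | ⟨h1, h2, h3⟩) | h)
      · exact Or.inl h
      · exact Or.inr (Or.inr ⟨h1, h3, h2⟩)
      · exact Or.inr (Or.inl h)
    · rintro (h | h | ⟨h1, h3, h2⟩)
      · exact Or.inl (Or.inl h)
      · exact Or.inr h
      · exact Or.inl (Or.inr ⟨h1, h2, h3⟩)

/-- a trio: three masks in increasing order -/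
def mkK (a b c : ℕ) : ℕ := a ||| (b <<< 24) ||| (c <<< 48)

/-- first block -/
def kA (K : ℕ) : ℕ := K &&& fullMask
/-- second block -/
def kB (K : ℕ) : ℕ := (K >>> 24) &&& fullMask
/-- third block -/
def kC (K : ℕ) : ℕ := (K >>> 48) &&& fullMask

/-- the set of blocks of a trio -/
def kSet (K : ℕ) : Finset (Finset GolayPt) := {ptSet (kA K), ptSet (kB K), ptSet (kC K)}

/-- sort three numbers into a trio -/
def sortK (a b c : ℕ) : ℕ :=
  bif Nat.blt a b then
    (bif Nat.blt b c then mkK a b c else bif Nat.blt a c then mkK a c b else mkK c a b)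
  else
    (bif Nat.blt a c then mkK b a c else bif Nat.blt b c then mkK b c a else mkK c b a)

theorem mkK_parts {a b c : ℕ} (ha : a < 2 ^ 24) (hb : b < 2 ^ 24) (hc : c < 2 ^ 24) :
    kA (mkK a b c) = a ∧ kB (mkK a b c) = b ∧ kC (mkK a b c) = c := by
  refine ⟨?_, ?_, ?_⟩ <;> refine Nat.eq_of_testBit_eq fun j => ?_ <;>
    simp only [kA, kB, kC, mkK, fullMask, Nat.testBit_and, Nat.testBit_shiftRight,
      Nat.testBit_or, Nat.testBit_shiftLeft, Nat.testBit_two_pow_sub_one] <;>
    by_cases hj : j < 24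
  all_goals (first
    | (have h1 : a.testBit j = false := Nat.testBit_eq_false_of_lt
          (lt_of_lt_of_le ha (Nat.pow_le_pow_right two_pos (not_lt.1 hj)))
       have h2 : b.testBit j = false := Nat.testBit_eq_false_of_lt
          (lt_of_lt_of_le hb (Nat.pow_le_pow_right two_pos (not_lt.1 hj)))
       have h3 : c.testBit j = false := Nat.testBit_eq_false_of_lt
          (lt_of_lt_of_le hc (Nat.pow_le_pow_right two_pos (not_lt.1 hj)))
       simp [hj, h1, h2, h3])
    | (have h24 : ∀ m, m < 2 ^ 24 → ∀ i, 24 ≤ i → Nat.testBit m i = false := fun m hm i hi =>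
          Nat.testBit_eq_false_of_lt (lt_of_lt_of_le hm (Nat.pow_le_pow_right two_pos hi))
       simp [hj, show ¬ 24 ≤ j by omega, show ¬ 48 ≤ j by omega, show ¬ 48 ≤ 24 + j by omega,
         h24 a ha (24 + j) (by omega), h24 a ha (48 + j) (by omega),
         show 24 + j - 24 = j by omega, show 48 + j - 48 = j by omega,
         h24 b hb (48 + j - 24) (by omega)]))

theorem kSet_sortK {a b c : ℕ} (ha : a < 2 ^ 24) (hb : b < 2 ^ 24) (hc : c < 2 ^ 24) :
    kSet (sortK a b c) = {ptSet a, ptSet b, ptSet c} := by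
  have h := fun x y z (hx : x < 2 ^ 24) (hy : y < 2 ^ 24) (hz : z < 2 ^ 24) =>
    show kSet (mkK x y z) = {ptSet x, ptSet y, ptSet z} by
      obtain ⟨p, q, r⟩ := mkK_parts hx hy hz; rw [kSet, p, q, r]
  unfold sortK
  cases Nat.blt a b <;> cases Nat.blt b c <;> cases Nat.blt a c <;>
    simp only [cond_true, cond_false, h _ _ _ ha hb hc, h _ _ _ ha hc hb, h _ _ _ hb ha hc,
      h _ _ _ hb hc ha, h _ _ _ hc ha hb, h _ _ _ hc hb ha] <;>
    (ext s; simp only [Finset.mem_insert, Finset.mem_singleton]; tauto)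

theorem kA_lt (K : ℕ) : kA K < 2 ^ 24 :=
  lt_of_le_of_lt Nat.and_le_right (by norm_num [fullMask])

theorem kB_lt (K : ℕ) : kB K < 2 ^ 24 :=
  lt_of_le_of_lt Nat.and_le_right (by norm_num [fullMask])

theorem kC_lt (K : ℕ) : kC K < 2 ^ 24 :=
  lt_of_le_of_lt Nat.and_le_right (by norm_num [fullMask])

theorem img24_parts {T : ℕ} (hT : validT T = true) (K : ℕ) :
    kA (img24 T K) = tblImg T (kA K) ∧ kB (img24 T K) = tblImg T (kB K) ∧
      kC (img24 T K) = tblImg T (kC K) := by
  have ht := (validT_bijective hT).2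
  refine ⟨?_, ?_, ?_⟩ <;> refine Nat.eq_of_testBit_eq fun j => Bool.eq_iff_iff.2 ?_ <;>
    rw [testBit_tblImg] <;>
    simp only [kA, kB, kC, fullMask, Nat.testBit_and, Nat.testBit_shiftRight,
      Nat.testBit_two_pow_sub_one, Bool.and_eq_true, decide_eq_true_eq, img24_eq,
      imgGo_testBit T K ht 24 le_rfl, Nat.zero_testBit, Bool.false_eq_true, false_or]
  all_goals constructor
  all_goals first
    | (rintro ⟨⟨i, hi, h1, h2, h3⟩, hj⟩
       have := ht i hi
       first
        | (refine ⟨i, hi, ⟨?_, hi⟩, by omega⟩; convert h3 using 2; omega)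
        | (refine ⟨i, hi, ⟨?_, by omega⟩, by omega⟩; convert h3 using 2; omega))
    | (rintro ⟨i, hi, ⟨h3, -⟩, rfl⟩
       have := ht i hi
       refine ⟨⟨i, hi, by omega, by omega, ?_⟩, by omega⟩
       convert h3 using 2; omega)

/-- image of a trio -/
noncomputable def imgK (T K : ℕ) : ℕ :=
  frc T fun t => frc K fun k => frc (img24 t k) fun m =>
    frc (kA m) fun a => frc (kB m) fun b => frc (kC m) fun c => sortK a b c

theorem kSet_imgK {T : ℕ} (hT : validT T = true) (K : ℕ) :
    kSet (imgK T K) = mkPerm T • kSet K := by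
  obtain ⟨ha, hb, hc⟩ := img24_parts hT K
  simp only [imgK, frc_eq, ha, hb, hc]
  rw [kSet_sortK (tblImg_lt hT _) (tblImg_lt hT _) (tblImg_lt hT _)]
  simp only [ptSet_tblImg hT, kSet, Finset.smul_finset_insert, Finset.smul_finset_singleton]

theorem kSet_imgK' {T : ℕ} (hT : validT T = true) (K : ℕ) :
    kSet (imgK T K) = (gv T)⁻¹ • kSet K := by
  rw [gv, inv_inv]; exact kSet_imgK hT K

/-- a trio in normal form -/
noncomputable def kCanon (K : ℕ) : Bool :=
  Nat.blt (kA K) (kB K) && Nat.blt (kB K) (kC K) && Nat.beq (mkK (kA K) (kB K) (kC K)) K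

theorem kSet_inj {K K' : ℕ} (h : kCanon K = true) (h' : kCanon K' = true)
    (he : kSet K = kSet K') : K = K' := by
  simp only [kCanon, Bool.and_eq_true, Nat.blt_eq, Nat.beq_eq] at h h'
  have hl : ∀ x : ℕ, x &&& fullMask < 2 ^ 24 := fun x =>
    lt_of_le_of_lt Nat.and_le_right (by norm_num [fullMask])
  have hs : ({kA K, kB K, kC K} : Finset ℕ) = {kA K', kB K', kC K'} := by
    ext x
    simp only [Finset.mem_insert, Finset.mem_singleton]
    constructor
    · intro hx
      have hx24 : x < 2 ^ 24 := by rcases hx with rfl | rfl | rfl <;> exact hl _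
      have : ptSet x ∈ kSet K := by rcases hx with rfl | rfl | rfl <;> simp [kSet]
      rw [he] at this
      simp only [kSet, Finset.mem_insert, Finset.mem_singleton] at this
      rcases this with e | e | e
      · exact Or.inl (ptSet_injOn hx24 (hl _) e)
      · exact Or.inr (Or.inl (ptSet_injOn hx24 (hl _) e))
      · exact Or.inr (Or.inr (ptSet_injOn hx24 (hl _) e))
    · intro hx
      have hx24 : x < 2 ^ 24 := by rcases hx with rfl | rfl | rfl <;> exact hl _
      have : ptSet x ∈ kSet K' := by rcases hx with rfl | rfl | rfl <;> simp [kSet]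
      rw [← he] at this
      simp only [kSet, Finset.mem_insert, Finset.mem_singleton] at this
      rcases this with e | e | e
      · exact Or.inl (ptSet_injOn hx24 (hl _) e)
      · exact Or.inr (Or.inl (ptSet_injOn hx24 (hl _) e))
      · exact Or.inr (Or.inr (ptSet_injOn hx24 (hl _) e))
  have m1 := (Finset.ext_iff.1 hs (kA K)).1 (by simp)
  have m2 := (Finset.ext_iff.1 hs (kB K)).1 (by simp)
  have m3 := (Finset.ext_iff.1 hs (kC K)).1 (by simp)
  simp only [Finset.mem_insert, Finset.mem_singleton] at m1 m2 m3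
  rw [← h.2, ← h'.2]
  congr 1 <;> omega

end Cfsg.Agent.H56.J4
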